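import Groth.Agent.GeomIrr.Levels
import Groth.Agent.GeomRedAt.InsepScheme
import Groth.Agent.GrpSchField.Dim

/-!
Consequences of the component count.
-/

universe u

open CategoryTheory CategoryTheory.Limits AlgebraicGeometry
open scoped TensorProduct

namespace Groth.Agent.GeomIrr

open FieldExtConn

variable {k : Type u} [Field k]

open scoped IntermediateField.algebraAdjoinAdjoin in
/-- The relative algebraic closure in a finitely generated extension is finite. -/
theorem finiteDimensional_algebraicClosure (K : Type u) [Field K] [Algebra k K] [Algebra.EssFiniteType k K] :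
    FiniteDimensional k (algebraicClosure k K) := by
  classical
  obtain ⟨G, hG⟩ := IntermediateField.fg_top k K
  have : Algebra.IsAlgebraic (Algebra.adjoin k (G : Set K)) K := by
    rw [← IntermediateField.isAlgebraic_adjoin_iff_top, hG, Algebra.isAlgebraic_iff_isIntegral]
    exact Algebra.isIntegral_of_surjective IntermediateField.topEquiv.surjective
  obtain ⟨t, hts, ht⟩ := exists_isTranscendenceBasis_subset (R := k) (G : Set K)
  lift t to Finset K using G.finite_toSet.subset hts
  let F := IntermediateField.adjoin k (Set.range (Subtype.val : ↥(t : Set K) → K))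
  have : Algebra.IsAlgebraic F K := ht.isAlgebraic_field
  have : Algebra.EssFiniteType F K := .of_comp k F K
  have : Module.Finite F K := Algebra.finite_of_essFiniteType_of_isAlgebraic
  let A := algebraicClosure k K
  have hA : Algebra.IsAlgebraic k A := algebraicClosure.isAlgebraic k K
  have hind : AlgebraicIndependent A (Subtype.val : ↥(t : Set K) → K) := ht.1.extendScalars A
  have hli : ∀ (n : ℕ) (a : Fin n → A), LinearIndependent k a → LinearIndependent F (fun i => (a i : K)) := by
    intro n a ha
    refine (LinearIndependent.iff_fractionRing (Algebra.adjoin k (Set.range (Subtype.val : ↥(t : Set K) → K))) F).1 ?_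
    rw [Fintype.linearIndependent_iff]
    intro g hg i
    have hp : ∀ i, ∃ p : MvPolynomial (t : Set K) k, MvPolynomial.aeval (Subtype.val : ↥(t : Set K) → K) p = (g i : K) := fun i => by
      have : (g i : K) ∈ Algebra.adjoin k (Set.range (Subtype.val : ↥(t : Set K) → K)) := (g i).2
      exact (Algebra.adjoin_range_eq_range_aeval k _).le this
    choose p hp using hp
    have h0 : ∑ j, MvPolynomial.C (a j) * MvPolynomial.map (algebraMap k A) (p j) = 0 := by
      refine hind (a₁ := _) (a₂ := 0) ?_
      rw [map_sum, map_zero, ← hg]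
      refine Finset.sum_congr rfl fun j _ => ?_
      rw [map_mul, MvPolynomial.aeval_C, MvPolynomial.aeval_map_algebraMap, hp, Algebra.smul_def, mul_comm]
      rfl
    have hc : ∀ m, (p i).coeff m = 0 := fun m => by
      have h1 := congrArg (MvPolynomial.coeff m) h0
      simp only [MvPolynomial.coeff_sum, MvPolynomial.coeff_C_mul, MvPolynomial.coeff_map,
        MvPolynomial.coeff_zero] at h1
      refine Fintype.linearIndependent_iff.1 ha (fun j => (p j).coeff m) (Eq.trans ?_ h1) i
      exact Finset.sum_congr rfl fun j _ => by rw [Algebra.smul_def, mul_comm]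
    refine Subtype.ext ?_
    rw [← hp i, show p i = 0 from MvPolynomial.ext _ _ hc, map_zero]
    rfl
  by_contra hinf
  have hle : (Module.finrank F K + 1 : ℕ) ≤ Module.rank k A := by
    refine le_trans Cardinal.natCast_lt_aleph0.le (not_lt.1 fun h => hinf ?_)
    exact Module.rank_lt_aleph0_iff.1 h
  obtain ⟨a, ha⟩ := exists_linearIndependent_of_le_rank hle
  have := (hli _ a ha).fintype_card_le_finrank
  simp at this

theorem finiteDimensional_separableClosure (K : Type u) [Field K] [Algebra k K] [Algebra.EssFiniteType k K] :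
    FiniteDimensional k (separableClosure k K) := by
  have := finiteDimensional_algebraicClosure (k := k) K
  exact Module.Finite.of_injective
    (IntermediateField.inclusion (le_algebraicClosure k K (separableClosure k K))).toLinearMap
    (IntermediateField.inclusion (le_algebraicClosure k K (separableClosure k K))).injective

variable {X : Scheme.{u}} (f : X ⟶ Spec (CommRingCat.of k))

theorem residue_finiteDimensional [LocallyOfFiniteType f] (x : X) :
    ∃ φ : k →+* X.residueField x, Spec.map (CommRingCat.ofHom φ) = X.fromSpecResidueField x ≫ f ∧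
      (letI := φ.toAlgebra; FiniteDimensional k (separableClosure k (X.residueField x))) := by
  let ψ : CommRingCat.of k ⟶ X.residueField x := Spec.preimage (X.fromSpecResidueField x ≫ f)
  have hψ : X.fromSpecResidueField x ≫ f = Spec.map ψ := (Spec.map_preimage _).symm
  have h := GeomRedAt.essFiniteType_residueField f x ψ hψ
  let _ : Algebra k (X.residueField x) := ψ.hom.toAlgebra
  have : Algebra.EssFiniteType k (X.residueField x) := h
  exact ⟨ψ.hom, hψ.symm, finiteDimensional_separableClosure (k := k) (X.residueField x : Type u)⟩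

/-- Iterated base change is base change along the composite. -/
theorem exists_iso_baseMap (L E : Type u) [Field L] [Field E] [Algebra k L] [Algebra k E] [Algebra L E]
    [IsScalarTower k L E] :
    ∃ e : pullback (pullback.snd f (ext k L)) (ext L E) ≅ pullback f (ext k E),
      e.hom ≫ baseMap f (IsScalarTower.toAlgHom k L E) = pullback.fst _ _ := by
  have heq : ext L E ≫ ext k L = ext k E := extMap_comp_ext (IsScalarTower.toAlgHom k L E)
  let e := pullbackLeftPullbackSndIso f (ext k L) (ext L E) ≪≫ pullback.congrHom rfl heq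
  refine ⟨e, ?_⟩
  apply pullback.hom_ext
  · simp only [e, Iso.trans_hom, Category.assoc, baseMap_fst, pullback.congrHom_hom, pullback.map,
      pullback.lift_fst, Category.comp_id, pullbackLeftPullbackSndIso_hom_fst]
  · simp only [e, Iso.trans_hom, Category.assoc, baseMap_snd, pullback.congrHom_hom, pullback.map,
      pullback.lift_snd_assoc, pullbackLeftPullbackSndIso_hom_snd_assoc, Category.comp_id,
      pullbackLeftPullbackSndIso_hom_snd]
    exact pullback.condition.symm

theorem isIrreducible_preimage_nested (L E : Type u) [Field L] [Field E] [Algebra k L] [Algebra k E] [Algebra L E]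
    [IsScalarTower k L E] {T : Set ↥(pullback f (ext k L))}
    (h : IsIrreducible (baseMap f (IsScalarTower.toAlgHom k L E) ⁻¹' T)) :
    IsIrreducible (pullback.fst (pullback.snd f (ext k L)) (ext L E) ⁻¹' T) := by
  obtain ⟨e, he⟩ := exists_iso_baseMap f L E
  rw [← he]
  have h2 := h.image _ e.inv.continuous.continuousOn
  convert h2 using 1
  refine Set.ext fun z => ⟨fun hz => ⟨e.hom z, hz, by rw [← Scheme.Hom.comp_apply, e.hom_inv_id]; rfl⟩, ?_⟩
  rintro ⟨w, hw, rfl⟩
  show (e.hom ≫ baseMap f _) (e.inv w) ∈ T
  rw [← Scheme.Hom.comp_apply, e.inv_hom_id_assoc]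
  exact hw

theorem isConnected_preimage_nested (L E : Type u) [Field L] [Field E] [Algebra k L] [Algebra k E] [Algebra L E]
    [IsScalarTower k L E] {T : Set ↥(pullback f (ext k L))}
    (h : _root_.IsConnected (baseMap f (IsScalarTower.toAlgHom k L E) ⁻¹' T)) :
    _root_.IsConnected (pullback.fst (pullback.snd f (ext k L)) (ext L E) ⁻¹' T) := by
  obtain ⟨e, he⟩ := exists_iso_baseMap f L E
  rw [← he]
  have h2 := h.image _ e.inv.continuous.continuousOn
  convert h2 using 1
  refine Set.ext fun z => ⟨fun hz => ⟨e.hom z, hz, by rw [← Scheme.Hom.comp_apply, e.hom_inv_id]; rfl⟩, ?_⟩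
  rintro ⟨w, hw, rfl⟩
  show (e.hom ≫ baseMap f _) (e.inv w) ∈ T
  rw [← Scheme.Hom.comp_apply, e.inv_hom_id_assoc]
  exact hw

/-- A closed subscheme whose underlying set stays irreducible is geometrically irreducible. -/
theorem geometricallyIrreducible_subscheme {Y : Scheme.{u}} (g : Y ⟶ Spec (CommRingCat.of k)) (I : Y.IdealSheafData)
    (h : ∀ (E : Type u) [Field E] [Algebra k E], IsIrreducible (pullback.fst g (ext k E) ⁻¹' (I.support : Set Y))) :
    GeometricallyIrreducible (I.subschemeι ≫ g) := by
  refine ⟨geometrically_iff_of_isClosedUnderIsomorphisms.mpr fun E _ y => ?_⟩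
  obtain ⟨ψ, rfl⟩ := Spec.map_surjective y
  let := ψ.hom.toAlgebra
  show IrreducibleSpace (pullback (I.subschemeι ≫ g) (ext k E) : Scheme.{u})
  let m : pullback (I.subschemeι ≫ g) (ext k E) ⟶ pullback g (ext k E) :=
    pullback.map _ _ _ _ I.subschemeι (𝟙 _) (𝟙 _) (by simp) (by simp)
  have hpre : IsPreimmersion m :=
    MorphismProperty.pullback_map (P := @IsPreimmersion) inferInstance inferInstance (by simp) (by simp)
  have hR : Set.range m = pullback.fst g (ext k E) ⁻¹' (I.support : Set Y) := by
    refine (Scheme.Pullback.range_map ..).trans ?_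
    simp [Scheme.IdealSheafData.range_subschemeι]
  obtain ⟨⟨z, hz⟩, hirr⟩ := (hR ▸ h E : IsIrreducible (Set.range m))
  obtain ⟨w, rfl⟩ := hz
  refine @IrreducibleSpace.mk _ _ ⟨fun U V hU hV ⟨a, _, ha⟩ ⟨b, _, hb⟩ => ?_⟩ ⟨w⟩
  obtain ⟨U', hU', rfl⟩ := m.isEmbedding.isInducing.isOpen_iff.1 hU
  obtain ⟨V', hV', rfl⟩ := m.isEmbedding.isInducing.isOpen_iff.1 hV
  obtain ⟨_, ⟨c, rfl⟩, hcU, hcV⟩ := hirr U' V' hU' hV' ⟨_, ⟨a, rfl⟩, ha⟩ ⟨_, ⟨b, rfl⟩, hb⟩
  exact ⟨c, trivial, hcU, hcV⟩

/-- Finitely many connected components, each with a point having small separable closure. -/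
theorem finite_connectedComponents_of_points [Finite (_root_.ConnectedComponents ↥X)]
    (hx : ∀ c : _root_.ConnectedComponents ↥X, ∃ x : X, ConnectedComponents.mk x = c ∧
      ∃ φ : k →+* X.residueField x, Spec.map (CommRingCat.ofHom φ) = X.fromSpecResidueField x ≫ f ∧
        (letI := φ.toAlgebra; FiniteDimensional k (separableClosure k (X.residueField x))))
    (L : Type u) [Field L] [Algebra k L] :
    Finite (_root_.ConnectedComponents ↥(pullback f (ext k L))) := by
  choose x hxc φ hφ hfd using hx
  have hfib : ∀ c, ∃ S : Set ↥(pullback f (ext k L)), S.Finite ∧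
      ∀ q, pullback.fst f (ext k L) q = x c → ∃ s ∈ S, q ∈ connectedComponent s := fun c => by
    obtain ⟨m, hR, _⟩ := exists_fibre_map f (hφ c) L
    let _ : Algebra k (X.residueField (x c)) := (φ c).toAlgebra
    have := hfd c
    obtain ⟨hfin, ⟨e⟩⟩ := exists_components_equiv (k := k) (X.residueField (x c) : Type u) L
    have : Finite (irreducibleComponents ↥(pullback (ext k L) (ext k (X.residueField (x c) : Type u)))) :=
      Finite.of_equiv _ e.symm
    refine ⟨Set.range fun T : irreducibleComponents ↥(pullback (ext k L) (ext k (X.residueField (x c) : Type u))) =>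
      m (genericPoints.ofComponent T).1, Set.finite_range _, fun q hq => ?_⟩
    obtain ⟨w, rfl⟩ : q ∈ Set.range m := hR ▸ hq
    let T : irreducibleComponents ↥(pullback (ext k L) (ext k (X.residueField (x c) : Type u))) :=
      ⟨irreducibleComponent w, irreducibleComponent_mem_irreducibleComponents w⟩
    have hsp : m (genericPoints.ofComponent T).1 ⤳ m w :=
      ((genericPoints.isGenericPoint_ofComponent T).specializes mem_irreducibleComponent).map m.continuous
    exact ⟨_, ⟨T, rfl⟩, isPreconnected_singleton.closure.subset_connectedComponent (subset_closure rfl) hsp.mem_closure⟩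
  choose S hSfin hS using hfib
  have := (Set.finite_iUnion hSfin).to_subtype
  refine Finite.of_surjective (fun s : (⋃ c, S c : Set ↥(pullback f (ext k L))) => ConnectedComponents.mk s.1) fun C => ?_
  obtain ⟨z, rfl⟩ := ConnectedComponents.surjective_coe C
  let c : _root_.ConnectedComponents ↥X := ConnectedComponents.mk (pullback.fst f (ext k L) z)
  have hxz : x c ∈ connectedComponent (pullback.fst f (ext k L) z) :=
    ConnectedComponents.coe_eq_coe.1 (hxc c) ▸ mem_connectedComponent
  rw [← image_component] at hxz
  obtain ⟨q, hq, hqx⟩ := hxz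
  obtain ⟨s, hs, hqs⟩ := hS c q hqx
  exact ⟨⟨s, Set.mem_iUnion.2 ⟨c, hs⟩⟩, ConnectedComponents.coe_eq_coe.2
    ((connectedComponent_eq hqs).trans (connectedComponent_eq hq).symm)⟩

theorem eq_of_specializes_of_isIntegralHom {Z W : Scheme.{u}} (p : Z ⟶ W) [IsIntegralHom p] {a b : Z}
    (hab : a ⤳ b) (h : p a = p b) : a = b := by
  by_contra hne
  have hlt : b < a := lt_iff_le_not_ge.2 ⟨hab, fun h' => hne (hab.antisymm h').eq⟩
  exact (GrpSchField.strictMono_of_isIntegralHom p hlt).ne h.symm

/-- Points with purely inseparable residue fields lie in a nowhere dense closed set. -/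
theorem exists_closed_nowhereDense [IrreducibleSpace X] (h : ¬ GeometricallyIrreducible f) :
    ∃ Y : Set X, IsClosed Y ∧ interior Y = ∅ ∧ ∀ x : X, ∀ φ : k →+* X.residueField x,
      Spec.map (CommRingCat.ofHom φ) = X.fromSpecResidueField x ≫ f →
      (letI := φ.toAlgebra; IsPurelyInseparable k (X.residueField x)) → x ∈ Y := by
  let π := pullback.fst f (ext k (SeparableClosure k))
  have := surjective_ext (k := k) (SeparableClosure k)
  have hint : IsIntegralHom π := by
    have : IsIntegralHom (ext k (SeparableClosure k)) := by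
      rw [IsIntegralHom.SpecMap_iff]
      exact algebraMap_isIntegral_iff.2 (Algebra.IsAlgebraic.isIntegral)
    exact MorphismProperty.pullback_fst (P := @IsIntegralHom) f _ this
  obtain ⟨z, -⟩ := π.surjective (genericPoint X)
  let g := genericPoints.ofComponent
    (⟨irreducibleComponent z, irreducibleComponent_mem_irreducibleComponents z⟩ :
      irreducibleComponents ↥(pullback f (ext k (SeparableClosure k))))
  obtain ⟨g', hne⟩ : ∃ g' : genericPoints ↥(pullback f (ext k (SeparableClosure k))), g' ≠ g := by
    by_contra! hall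
    refine h ?_
    have hgen : IsGenericPoint g.1 Set.univ := by
      refine Set.eq_univ_of_forall fun w => ?_
      let g' := genericPoints.ofComponent
        (⟨irreducibleComponent w, irreducibleComponent_mem_irreducibleComponents w⟩ :
          irreducibleComponents ↥(pullback f (ext k (SeparableClosure k))))
      exact (hall g' ▸ (genericPoints.isGenericPoint_ofComponent _).specializes mem_irreducibleComponent :
        g.1 ⤳ w).mem_closure
    have : IrreducibleSpace ↥(pullback f (ext k (SeparableClosure k))) :=
      @IrreducibleSpace.mk _ _ ⟨hgen.isIrreducible.2⟩ ⟨z⟩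
    exact geometricallyIrreducible_of_isSepClosed f (SeparableClosure k)
  have hη : ∀ g : genericPoints ↥(pullback f (ext k (SeparableClosure k))), π g.1 = genericPoint X := fun g => by
    have := fst_mem_genericPoints f g.2
    rwa [genericPoints_eq_singleton] at this
  refine ⟨π '' (closure {g.1} ∩ closure {g'.1}), π.isClosedMap _ (isClosed_closure.inter isClosed_closure), ?_, ?_⟩
  · rw [Set.eq_empty_iff_forall_notMem]
    intro y hy
    obtain ⟨w, ⟨hw1, hw2⟩, hw⟩ : genericPoint X ∈ π '' (closure {g.1} ∩ closure {g'.1}) :=
      interior_subset ((genericPoint_specializes y).mem_open isOpen_interior hy)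
    obtain ⟨m, hR, _⟩ := exists_fibre_map f (x := genericPoint X)
      (φ := (Spec.preimage (X.fromSpecResidueField (genericPoint X) ≫ f)).hom) (Spec.map_preimage _) (SeparableClosure k)
    let _ : Algebra k (X.residueField (genericPoint X)) :=
      (Spec.preimage (X.fromSpecResidueField (genericPoint X) ≫ f)).hom.toAlgebra
    have heq : ∀ g : genericPoints ↥(pullback f (ext k (SeparableClosure k))), g.1 ⤳ w → g.1 = w := by
      intro g hg
      -- points of one fibre of an integral morphism do not specialise to each other
      exact eq_of_specializes_of_isIntegralHom π hg (by rw [hη g, hw])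
    exact hne (Subtype.ext ((heq g' (specializes_iff_mem_closure.2 hw2)).trans
      (heq g (specializes_iff_mem_closure.2 hw1)).symm))
  · intro x φ hφ hpi
    obtain ⟨m, hR, _⟩ := exists_fibre_map f hφ (SeparableClosure k)
    let _ : Algebra k (X.residueField x) := φ.toAlgebra
    have hsub : ∀ a b : ↥(pullback f (ext k (SeparableClosure k))), π a = x → π b = x → a = b := by
      intro a b ha hb
      obtain ⟨a', rfl⟩ : a ∈ Set.range m := hR ▸ ha
      obtain ⟨b', rfl⟩ : b ∈ Set.range m := hR ▸ hb
      have : UniversallyInjective (ext k (X.residueField x : Type u)) :=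
        GeomRedAt.universallyInjective_SpecMap (k := k) (X.residueField x : Type u)
      have := MorphismProperty.pullback_fst (P := @UniversallyInjective) (ext k (SeparableClosure k))
        (ext k (X.residueField x : Type u)) ‹_›
      have : Subsingleton ↥(Spec (CommRingCat.of (SeparableClosure k))) :=
        inferInstanceAs (Subsingleton (PrimeSpectrum (SeparableClosure k)))
      exact congrArg m ((pullback.fst (ext k (SeparableClosure k)) (ext k (X.residueField x : Type u))).injective
        (Subsingleton.elim _ _))
    have hall : ∀ g : genericPoints ↥(pullback f (ext k (SeparableClosure k))), ∃ w, g.1 ⤳ w ∧ π w = x := fun g => by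
      have hx : x ∈ π '' closure {g.1} := by
        have hcl := π.isClosedMap _ (isClosed_closure (s := {g.1}))
        have hηm : genericPoint X ∈ π '' closure {g.1} := ⟨g.1, subset_closure rfl, hη g⟩
        exact (genericPoint_specializes x).mem_closed hcl hηm
      obtain ⟨w, hw, hwx⟩ := hx
      exact ⟨w, specializes_iff_mem_closure.2 hw, hwx⟩
    obtain ⟨a, ha, hax⟩ := hall g
    obtain ⟨b, hb, hbx⟩ := hall g'
    exact ⟨a, ⟨ha.mem_closure, hsub a b hax hbx ▸ hb.mem_closure⟩, hax⟩

/-- An irreducible generic fibre makes a dominating irreducible scheme geometrically irreducible. -/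
theorem geometricallyIrreducible_of_fibre {C : Scheme.{u}} (p : X ⟶ C) (g : C ⟶ Spec (CommRingCat.of k))
    (hpg : p ≫ g = f) [IrreducibleSpace X] [IrreducibleSpace C] [GeometricallyIrreducible g] [Flat p]
    [GeometricallyIrreducible (p.fiberToSpecResidueField (genericPoint C))] : GeometricallyIrreducible f := by
  subst hpg
  refine ⟨geometrically_iff_of_isClosedUnderIsomorphisms.mpr fun E _ y => ?_⟩
  obtain ⟨ψ, rfl⟩ := Spec.map_surjective y
  let := ψ.hom.toAlgebra
  show IrreducibleSpace (pullback (p ≫ g) (ext k E) : Scheme.{u})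
  let ηC := genericPoint C
  let iC : Spec (C.residueField ηC) ⟶ C := C.fromSpecResidueField ηC
  let F := pullback p iC
  have : GeometricallyIrreducible (pullback.snd p iC) := ‹GeometricallyIrreducible (p.fiberToSpecResidueField ηC)›
  let ψC := Spec.preimage (R := CommRingCat.of k) (iC ≫ g)
  have hUO : UniversallyOpen (pullback.snd p iC) := inferInstance
  let R := pullback (iC ≫ g) (ext k E)
  have hR : IrreducibleSpace ↥R := by
    have hC : IrreducibleSpace ↥(pullback g (ext k E)) :=
      GeometricallyIrreducible.geometrically_irreducibleSpace (f := g) _ _ _ (IsPullback.of_hasPullback _ _)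
    let m : R ⟶ pullback g (ext k E) := pullback.map _ _ _ _ iC (𝟙 _) (𝟙 _) (by simp) (by simp)
    have hpre : IsPreimmersion m :=
      MorphismProperty.pullback_map (P := @IsPreimmersion) inferInstance inferInstance (by simp) (by simp)
    have hR : Set.range m = pullback.fst g (ext k E) ⁻¹' {ηC} := by
      refine (Scheme.Pullback.range_map ..).trans ?_
      simp
      exact congrArg _ (C.range_fromSpecResidueField ηC)
    let ξ := genericPoint ↥(pullback g (ext k E))
    have := surjective_ext (k := k) E
    have hξ : pullback.fst g (ext k E) ξ = ηC := by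
      have h1 := ((genericPoint_spec ↥(pullback g (ext k E))).image (pullback.fst g (ext k E)).continuous)
      rw [Set.image_univ, (pullback.fst g (ext k E)).surjective.range_eq, closure_univ] at h1
      exact h1.eq (genericPoint_spec C)
    obtain ⟨w, hw⟩ : ξ ∈ Set.range m := by rw [hR]; exact hξ
    have hgen : IsGenericPoint w (Set.univ) := Set.eq_univ_of_forall fun v =>
      (m.isEmbedding.isInducing.specializes_iff.1 (hw ▸ genericPoint_specializes (m v))).mem_closure
    exact @IrreducibleSpace.mk _ _ ⟨hgen.isIrreducible.2⟩ ⟨w⟩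
  have hF : IrreducibleSpace ↥(pullback (pullback.snd p iC) (pullback.fst (iC ≫ g) (ext k E))) := inferInstance
  let m : pullback (pullback.snd p iC) (pullback.fst (iC ≫ g) (ext k E)) ⟶ pullback (p ≫ g) (ext k E) :=
    pullback.lift (pullback.fst _ _ ≫ pullback.fst p iC) (pullback.snd _ _ ≫ pullback.snd _ _) (by
      simp only [Category.assoc]
      rw [← pullback.condition (f := iC ≫ g) (g := ext k E), pullback.condition_assoc (f := p) (g := iC),
        pullback.condition_assoc])
  have := surjective_ext (k := k) E
  have hXη : p (genericPoint X) = ηC := by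
    obtain ⟨y, hy, hyη⟩ := Flat.generalizingMap p (genericPoint_specializes (p (genericPoint X)) : ηC ⤳ p (genericPoint X))
    rw [(hy.antisymm (genericPoint_specializes y)).eq] at hyη; exact hyη
  have hmR : ∀ z, pullback.fst (p ≫ g) (ext k E) z = genericPoint X → z ∈ Set.range m := fun z hz => by
    obtain ⟨a, ha⟩ : p (genericPoint X) ∈ Set.range iC := by rw [C.range_fromSpecResidueField]; exact hXη
    obtain ⟨u, hu, -⟩ := Scheme.Pullback.exists_preimage_pullback (genericPoint X) a ha.symm
    have hsq : IsPullback (pullback.fst (pullback.snd p iC) (pullback.fst (iC ≫ g) (ext k E))) m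
        (pullback.fst p iC) (pullback.fst (p ≫ g) (ext k E)) := by
      have hcond : (pullback.fst p iC) ≫ p ≫ g = pullback.snd p iC ≫ iC ≫ g := pullback.condition_assoc g
      refine IsPullback.of_bot ?_ (pullback.lift_fst _ _ _).symm (IsPullback.of_hasPullback (p ≫ g) (ext k E))
      rw [pullback.lift_snd, hcond]
      exact (IsPullback.of_hasPullback _ _).paste_vert (IsPullback.of_hasPullback (iC ≫ g) (ext k E))
    obtain ⟨w, -, hw⟩ := Scheme.exists_preimage_of_isPullback hsq u z (hu.trans hz.symm)
    exact ⟨w, hw⟩
  have hUO' : UniversallyOpen (pullback.fst (p ≫ g) (ext k E)) :=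
    MorphismProperty.pullback_fst (P := @UniversallyOpen) _ _ inferInstance
  refine @IrreducibleSpace.mk _ _ ⟨fun U V hU hV hU' hV' => ?_⟩ ?_
  · have key : ∀ U : Set ↥(pullback (p ≫ g) (ext k E)), IsOpen U → U.Nonempty → (m ⁻¹' U).Nonempty := by
      intro U hU hU'
      obtain ⟨z, hz, hzη⟩ : genericPoint X ∈ pullback.fst (p ≫ g) (ext k E) '' U :=
        ((genericPoint_spec X).mem_open_set_iff ((pullback.fst (p ≫ g) (ext k E)).isOpenMap _ hU)).2
          (by rw [Set.univ_inter]; exact hU'.image _)
      obtain ⟨w, rfl⟩ := hmR z hzη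
      exact ⟨w, hz⟩
    obtain ⟨a, ha⟩ := key U hU ⟨_, hU'.choose_spec.2⟩
    obtain ⟨b, hb⟩ := key V hV ⟨_, hV'.choose_spec.2⟩
    obtain ⟨w, -, hwU, hwV⟩ := PreirreducibleSpace.isPreirreducible_univ (m ⁻¹' U) (m ⁻¹' V)
      (hU.preimage m.continuous) (hV.preimage m.continuous) ⟨a, trivial, ha⟩ ⟨b, trivial, hb⟩
    exact ⟨m w, trivial, hwU, hwV⟩
  · exact ⟨m (Classical.arbitrary _)⟩

end Groth.Agent.GeomIrr
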