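import Mathlib
import Groth.Agent.FieldExtConn.Conn
import Groth.Agent.GeomFibre.Descent

/-!
Geometric irreducibility and connectedness over fields.
-/

universe u

open CategoryTheory CategoryTheory.Limits AlgebraicGeometry
open scoped TensorProduct

namespace Groth.Agent.GeomIrr

open FieldExtConn

/-- The two topological properties. -/
theorem connectedSpace_of_irreducible {Y : Type*} [TopologicalSpace Y] [IrreducibleSpace Y] : ConnectedSpace Y :=
  inferInstance

/-- A geometrically irreducible morphism is geometrically connected. -/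
theorem geometricallyConnected_of_irreducible {X Y : Scheme.{u}} (f : X ⟶ Y) [GeometricallyIrreducible f] :
    GeometricallyConnected f := by
  refine ⟨fun K _ y Z fst snd h => ?_⟩
  have : IrreducibleSpace Z := GeometricallyIrreducible.geometrically_irreducibleSpace (f := f) y fst snd h
  exact connectedSpace_of_irreducible (Y := Z)

/-- A geometric property descends along surjective base changes. -/
theorem geometrically_descend {P : ObjectProperty Scheme.{u}}
    (hdesc : ∀ ⦃Z W : Scheme.{u}⦄ (p : Z ⟶ W) [Flat p] [Surjective p], P Z → P W)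
    {X Y Y' : Scheme.{u}} (f : X ⟶ Y) (g : Y' ⟶ Y) [Surjective g]
    (hP : geometrically P (pullback.snd f g)) : geometrically P f := by
  intro K _ y Z fst snd hZ
  have : Surjective (pullback.fst y g) := inferInstance
  obtain ⟨z, -⟩ := (pullback.fst y g).surjective (IsLocalRing.closedPoint K)
  let Ω := (pullback y g).residueField z
  let π : Spec Ω ⟶ pullback y g := (pullback y g).fromSpecResidueField z
  let sp : Spec (CommRingCat.of Ω) ⟶ Spec (CommRingCat.of K) := π ≫ pullback.fst y g
  let sq : Spec (CommRingCat.of Ω) ⟶ Y' := π ≫ pullback.snd y g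
  have hcomm : sp ≫ y = sq ≫ g := by rw [Category.assoc, Category.assoc, pullback.condition]
  have : Subsingleton ↥(Spec (CommRingCat.of K)) := inferInstanceAs (Subsingleton (PrimeSpectrum K))
  have hsurj : Surjective sp := ⟨fun x => ⟨IsLocalRing.closedPoint Ω, Subsingleton.elim _ _⟩⟩
  have hW := IsPullback.of_hasPullback snd sp
  have hbig : IsPullback (pullback.fst snd sp ≫ fst) (pullback.snd snd sp) f (sq ≫ g) :=
    hcomm ▸ hW.paste_horiz hZ
  have h := IsPullback.of_hasPullback f g
  have hlift := IsPullback.of_right (h₁₁ := h.lift (pullback.fst snd sp ≫ fst) (pullback.snd snd sp ≫ sq)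
    (by rw [hbig.w]; simp only [sq, Category.assoc])) (by rw [h.lift_fst]; exact hbig) (by rw [h.lift_snd]) h
  have : Flat sp := by
    rw [← Spec.map_preimage sp, Flat.SpecMap_iff]
    letI := (Spec.preimage sp).hom.toAlgebra
    exact (RingHom.flat_algebraMap_iff (R := K) (S := Ω)).2 inferInstance
  exact hdesc (pullback.fst snd sp) (hP sq _ _ hlift)

theorem geometricallyIrreducible_descend {X Y Y' : Scheme.{u}} (f : X ⟶ Y) (g : Y' ⟶ Y) [Surjective g]
    [GeometricallyIrreducible (pullback.snd f g)] : GeometricallyIrreducible f :=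
  ⟨geometrically_descend (fun _ _ p _ _ (_ : IrreducibleSpace _) => p.surjective.irreducibleSpace p.continuous)
    f g GeometricallyIrreducible.geometrically_irreducibleSpace⟩

theorem geometricallyConnected_descend {X Y Y' : Scheme.{u}} (f : X ⟶ Y) (g : Y' ⟶ Y) [Surjective g]
    [GeometricallyConnected (pullback.snd f g)] : GeometricallyConnected f :=
  ⟨geometrically_descend (fun _ _ p _ _ (_ : ConnectedSpace _) => p.surjective.connectedSpace p.continuous)
    f g GeometricallyConnected.geometrically_connectedSpace⟩

theorem geometricallyIntegral_descend {X Y Y' : Scheme.{u}} (f : X ⟶ Y) (g : Y' ⟶ Y) [Surjective g]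
    [GeometricallyIntegral (pullback.snd f g)] : GeometricallyIntegral f :=
  ⟨geometrically_descend (fun Z W p _ _ (h : IsIntegral Z) => by
    rw [isIntegral_iff_irreducibleSpace_and_isReduced] at h ⊢
    have := h.1
    have := h.2
    exact ⟨p.surjective.irreducibleSpace p.continuous, GeomFibre.isReduced_of_flat_surjective p⟩)
    f g GeometricallyIntegral.geometrically_isIntegral⟩

variable {k : Type u} [Field k]

/-- A purely inseparable extension is geometrically irreducible. -/
theorem geometricallyIrreducible_purelyInseparable (L K : Type u) [Field L] [Field K]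
    [Algebra L K] [IsPurelyInseparable L K] : GeometricallyIrreducible (ext L K) := by
  refine ⟨geometrically_iff_of_isClosedUnderIsomorphisms.mpr fun E _ y => ?_⟩
  obtain ⟨ψ, rfl⟩ := Spec.map_surjective y
  let := ψ.hom.toAlgebra
  have h1 := PrimeSpectrum.isHomeomorph_comap_of_isPurelyInseparable L K E
  have h2 := PrimeSpectrum.isHomeomorph_comap_of_bijective
    (f := (Algebra.TensorProduct.comm L K E).toRingEquiv.toRingHom)
    (Algebra.TensorProduct.comm L K E).bijective
  have : IrreducibleSpace (PrimeSpectrum (E ⊗[L] K)) := h1.homeomorph.irreducibleSpace_iff.mpr inferInstance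
  have : IrreducibleSpace (PrimeSpectrum (K ⊗[L] E)) := h2.homeomorph.irreducibleSpace_iff.mp this
  exact (pullbackSpecIso L K E).hom.homeomorph.irreducibleSpace_iff.mpr this

/-- Extensions of an algebraically closed field are geometrically irreducible. -/
theorem geometricallyIrreducible_isAlgClosed (L K : Type u) [Field L] [IsAlgClosed L] [Field K]
    [Algebra L K] : GeometricallyIrreducible (ext L K) := by
  refine ⟨geometrically_iff_of_isClosedUnderIsomorphisms.mpr fun E _ y => ?_⟩
  obtain ⟨ψ, rfl⟩ := Spec.map_surjective y
  let := ψ.hom.toAlgebra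
  have := isDomain_tensor_of_isAlgClosed L K E
  have : IrreducibleSpace ↥(Spec (CommRingCat.of (K ⊗[L] E))) :=
    (inferInstance : IrreducibleSpace (PrimeSpectrum (K ⊗[L] E)))
  exact (pullbackSpecIso L K E).hom.homeomorph.irreducibleSpace_iff.mpr this

theorem geometricallyIrreducible_baseMap {X : Scheme.{u}} (f : X ⟶ Spec (CommRingCat.of k)) {L K : Type u}
    [Field L] [Field K] [Algebra k L] [Algebra k K] (φ : L →ₐ[k] K) [h : GeometricallyIrreducible (extMap φ)] :
    GeometricallyIrreducible (baseMap f φ) :=
  baseMap_prop f @GeometricallyIrreducible φ h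

theorem geometricallyIrreducible_extMap_of_algClosed {L K : Type u} [Field L] [IsAlgClosed L] [Field K]
    [Algebra k L] [Algebra k K] (φ : L →ₐ[k] K) : GeometricallyIrreducible (extMap φ) :=
  letI := φ.toRingHom.toAlgebra
  geometricallyIrreducible_isAlgClosed L K

/-- Every extension maps to a common algebraically closed one. -/
theorem exists_common_algClosed (L E : Type u) [Field L] [Field E] [Algebra k L] [Algebra k E] :
    ∃ (Ω : Type u) (_ : Field Ω) (_ : IsAlgClosed Ω) (_ : Algebra k Ω), Nonempty (L →ₐ[k] Ω) ∧ Nonempty (E →ₐ[k] Ω) := by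
  obtain ⟨Ω₀, _, p, q, h⟩ := GeomFibre.exists_common_field k L E (algebraMap k L) (algebraMap k E)
  let Ω := AlgebraicClosure Ω₀
  let : Algebra k Ω := ((algebraMap Ω₀ Ω).comp (p.comp (algebraMap k L))).toAlgebra
  exact ⟨Ω, inferInstance, inferInstance, inferInstance,
    ⟨{ (algebraMap Ω₀ Ω).comp p with commutes' := fun c => rfl }⟩,
    ⟨{ (algebraMap Ω₀ Ω).comp q with
      commutes' := fun c => congrArg (algebraMap Ω₀ Ω) (RingHom.congr_fun h c).symm }⟩⟩

variable {X : Scheme.{u}} (f : X ⟶ Spec (CommRingCat.of k))

/-- Irreducibility over one separably closed extension suffices. -/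
theorem geometricallyIrreducible_of_isSepClosed (S : Type u) [Field S] [IsSepClosed S] [Algebra k S]
    [h : IrreducibleSpace (pullback f (ext k S) : Scheme.{u})] : GeometricallyIrreducible f := by
  refine ⟨geometrically_iff_of_isClosedUnderIsomorphisms.mpr fun E _ y => ?_⟩
  obtain ⟨ψ, rfl⟩ := Spec.map_surjective y
  let := ψ.hom.toAlgebra
  show IrreducibleSpace (pullback f (ext k E) : Scheme.{u})
  let κ := AlgebraicClosure S
  let i : S →ₐ[k] κ := IsScalarTower.toAlgHom k S κ
  have : GeometricallyIrreducible (extMap i) := geometricallyIrreducible_purelyInseparable S κ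
  have := geometricallyIrreducible_baseMap f i
  have hκ : IrreducibleSpace (pullback f (ext k κ) : Scheme.{u}) :=
    GeometricallyIrreducible.irreducibleSpace (f := baseMap f i) (baseMap f i).isOpenMap
  obtain ⟨Ω, _, _, _, ⟨φ⟩, ⟨ι⟩⟩ := exists_common_algClosed (k := k) κ E
  have := geometricallyIrreducible_extMap_of_algClosed φ
  have := geometricallyIrreducible_baseMap f φ
  have hΩ : IrreducibleSpace (pullback f (ext k Ω) : Scheme.{u}) :=
    GeometricallyIrreducible.irreducibleSpace (f := baseMap f φ) (baseMap f φ).isOpenMap
  exact (baseMap f ι).surjective.irreducibleSpace (baseMap f ι).continuous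

/-- Connectedness over one separably closed extension suffices. -/
theorem geometricallyConnected_of_isSepClosed (S : Type u) [Field S] [IsSepClosed S] [Algebra k S]
    [h : ConnectedSpace (pullback f (ext k S) : Scheme.{u})] : GeometricallyConnected f := by
  refine ⟨geometrically_iff_of_isClosedUnderIsomorphisms.mpr fun E _ y => ?_⟩
  obtain ⟨ψ, rfl⟩ := Spec.map_surjective y
  let := ψ.hom.toAlgebra
  show ConnectedSpace (pullback f (ext k E) : Scheme.{u})
  let κ := AlgebraicClosure S
  let i : S →ₐ[k] κ := IsScalarTower.toAlgHom k S κ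
  have : GeometricallyIrreducible (extMap i) := geometricallyIrreducible_purelyInseparable S κ
  have := geometricallyIrreducible_baseMap f i
  have := geometricallyConnected_of_irreducible (baseMap f i)
  have hκ : ConnectedSpace (pullback f (ext k κ) : Scheme.{u}) :=
    GeometricallyConnected.connectedSpace (baseMap f i) (baseMap f i).isOpenMap
  obtain ⟨Ω, _, _, _, ⟨φ⟩, ⟨ι⟩⟩ := exists_common_algClosed (k := k) κ E
  have := geometricallyIrreducible_extMap_of_algClosed φ
  have := geometricallyIrreducible_baseMap f φ
  have := geometricallyConnected_of_irreducible (baseMap f φ)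
  have hΩ : ConnectedSpace (pullback f (ext k Ω) : Scheme.{u}) :=
    GeometricallyConnected.connectedSpace (baseMap f φ) (baseMap f φ).isOpenMap
  exact (baseMap f ι).surjective.connectedSpace (baseMap f ι).continuous

/-- Over a separably closed field irreducible means geometrically irreducible. -/
theorem geometricallyIrreducible_of_irreducibleSpace [IsSepClosed k] [IrreducibleSpace X] :
    GeometricallyIrreducible f := by
  have : IsIso (ext k k) := by
    have : ext k k = 𝟙 _ := by
      show Spec.map (CommRingCat.ofHom (algebraMap k k)) = _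
      exact (congrArg Spec.map (rfl : CommRingCat.ofHom (algebraMap k k) = 𝟙 (CommRingCat.of k))).trans (Spec.map_id _)
    rw [this]; infer_instance
  have : IrreducibleSpace (pullback f (ext k k) : Scheme.{u}) :=
    (pullback.fst f (ext k k)).homeomorph.irreducibleSpace_iff.mpr ‹_›
  exact geometricallyIrreducible_of_isSepClosed f k

/-- Extensions of a separably closed field are geometrically irreducible. -/
theorem geometricallyIrreducible_ext [IsSepClosed k] (K : Type u) [Field K] [Algebra k K] :
    GeometricallyIrreducible (ext k K) :=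
  have : IrreducibleSpace ↥(Spec (CommRingCat.of K)) := (inferInstance : IrreducibleSpace (PrimeSpectrum K))
  geometricallyIrreducible_of_irreducibleSpace (ext k K)

theorem surjective_ext (K : Type u) [Field K] [Algebra k K] : Surjective (ext k K) :=
  ⟨fun _ => ⟨IsLocalRing.closedPoint K, Subsingleton.elim (α := Spec (CommRingCat.of k)) _ _⟩⟩

/-- Preimages of connected sets under open surjections with connected fibres. -/
theorem isConnected_preimage_of_fibres {A B : Type*} [TopologicalSpace A] [TopologicalSpace B] {π : A → B}
    (ho : IsOpenMap π) (hfib : ∀ b, IsConnected (π ⁻¹' {b})) {Z : Set B} (hZ : IsConnected Z) :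
    IsConnected (π ⁻¹' Z) := by
  refine ⟨?_, ?_⟩
  · obtain ⟨b, hb⟩ := hZ.1
    obtain ⟨a, ha⟩ := (hfib b).1
    exact ⟨a, show π a ∈ Z by rw [show π a = b from ha]; exact hb⟩
  intro U V hU hV hsub ⟨a, haZ, haU⟩ ⟨c, hcZ, hcV⟩
  obtain ⟨b, hbZ, ⟨u, huU, hub⟩, v, hvV, hvb⟩ := hZ.2 (π '' U) (π '' V) (ho _ hU) (ho _ hV)
    (fun b hb => by
      obtain ⟨a, ha⟩ := (hfib b).1
      rcases hsub (show π a ∈ Z by rw [show π a = b from ha]; exact hb) with h | h
      · exact Or.inl ⟨a, h, ha⟩
      · exact Or.inr ⟨a, h, ha⟩)
    ⟨π a, haZ, a, haU, rfl⟩ ⟨π c, hcZ, c, hcV, rfl⟩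
  obtain ⟨w, hw, hwUV⟩ := (hfib b).2 U V hU hV
    (fun w hw => hsub (show π w ∈ Z by rw [show π w = b from hw]; exact hbZ)) ⟨u, hub, huU⟩ ⟨v, hvb, hvV⟩
  exact ⟨w, show π w ∈ Z by rw [show π w = b from hw]; exact hbZ, hwUV⟩

theorem geometricallyIrreducible_fst [IsSepClosed k] (K : Type u) [Field K] [Algebra k K] :
    GeometricallyIrreducible (pullback.fst f (ext k K)) :=
  MorphismProperty.pullback_fst (P := @GeometricallyIrreducible) f (ext k K) (geometricallyIrreducible_ext K)

theorem universallyOpen_fst (K : Type u) [Field K] [Algebra k K] :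
    UniversallyOpen (pullback.fst f (ext k K)) :=
  MorphismProperty.pullback_fst (P := @UniversallyOpen) f (ext k K) inferInstance

theorem isIrreducible_preimage [IsSepClosed k] (K : Type u) [Field K] [Algebra k K] {Z : Set X}
    (hZ : IsIrreducible Z) : IsIrreducible (pullback.fst f (ext k K) ⁻¹' Z) := by
  have := geometricallyIrreducible_fst f K
  have := universallyOpen_fst f K
  exact (pullback.fst f (ext k K)).isIrreducible_preimage (pullback.fst f (ext k K)).isOpenMap hZ

theorem isConnected_preimage [IsSepClosed k] (K : Type u) [Field K] [Algebra k K] {Z : Set X}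
    (hZ : _root_.IsConnected Z) : _root_.IsConnected (pullback.fst f (ext k K) ⁻¹' Z) := by
  have := geometricallyIrreducible_fst f K
  have := geometricallyConnected_of_irreducible (pullback.fst f (ext k K))
  have := universallyOpen_fst f K
  exact isConnected_preimage_of_fibres (pullback.fst f (ext k K)).isOpenMap
    (pullback.fst f (ext k K)).isConnected_preimage_singleton hZ

end Groth.Agent.GeomIrr
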