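import Groth.Agent.GeomIrr.Basic

/-!
Components, fibres and finite levels of base changes.
-/

universe u

open CategoryTheory CategoryTheory.Limits AlgebraicGeometry
open scoped TensorProduct

namespace Groth.Agent.GeomIrr

open FieldExtConn

variable {k : Type u} [Field k] {X : Scheme.{u}} (f : X ⟶ Spec (CommRingCat.of k))

/-- Irreducibility at all finite levels gives irreducibility of the limit. -/
theorem irreducibleSpace_of_levels (K : Type u) [Field K] [Algebra k K] [Algebra.IsAlgebraic k K]
    (h : ∀ L : Level (k := k) K, IrreducibleSpace (pullback f (ext k L.1) : Scheme.{u})) :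
    IrreducibleSpace (pullback f (ext k K) : Scheme.{u}) := by
  let L₀ : Level (k := k) K := ⟨⊥, inferInstance⟩
  obtain ⟨v⟩ := (h L₀).toNonempty
  obtain ⟨x, -⟩ := (baseMap f L₀.1.val).surjective v
  have : Nonempty ↥(pullback f (ext k K) : Scheme.{u}) := ⟨x⟩
  refine @IrreducibleSpace.mk _ _ ⟨fun U V hU hV hU' hV' => ?_⟩ this
  obtain ⟨a, -, ha⟩ := hU'
  obtain ⟨b, -, hb⟩ := hV'
  obtain ⟨L, O, hO, haO, hOU⟩ := exists_basis f U hU a ha
  obtain ⟨M, O', hO', hbO', hOV⟩ := exists_basis f V hV b hb
  obtain ⟨N, hL, hM⟩ := level_directed K L M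
  obtain ⟨y, -, hy1, hy2⟩ := (h N).isPreirreducible_univ
    (baseMap f (IntermediateField.inclusion hL) ⁻¹' O) (baseMap f (IntermediateField.inclusion hM) ⁻¹' O')
    (hO.preimage (baseMap f _).continuous) (hO'.preimage (baseMap f _).continuous)
    ⟨baseMap f N.1.val a, trivial, show baseMap f _ _ ∈ O by rw [baseMap_level f hL]; exact haO⟩
    ⟨baseMap f N.1.val b, trivial, show baseMap f _ _ ∈ O' by rw [baseMap_level f hM]; exact hbO'⟩
  obtain ⟨w, rfl⟩ := (baseMap f N.1.val).surjective y
  refine ⟨w, trivial, hOU ?_, hOV ?_⟩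
  · rw [Set.mem_preimage, ← baseMap_level f hL]; exact hy1
  · rw [Set.mem_preimage, ← baseMap_level f hM]; exact hy2

/-- Finite separable levels suffice. -/
theorem geometricallyIrreducible_of_finite_separable
    (h : ∀ (k' : Type u) [Field k'] [Algebra k k'] [FiniteDimensional k k'] [Algebra.IsSeparable k k'],
      IrreducibleSpace (pullback f (ext k k') : Scheme.{u})) : GeometricallyIrreducible f := by
  have := irreducibleSpace_of_levels f (SeparableClosure k) fun L => by
    have : Algebra.IsSeparable k L.1 := Algebra.isSeparable_tower_bot_of_isSeparable k L.1 (SeparableClosure k)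
    exact h L.1
  exact geometricallyIrreducible_of_isSepClosed f (SeparableClosure k)

/-- Algebraically closed fields have the most irreducible components. -/
theorem mk_irreducibleComponents_le (K Ω : Type u) [Field K] [Algebra k K] [Field Ω] [Algebra k Ω] [IsAlgClosed Ω] :
    Cardinal.mk (irreducibleComponents (pullback f (ext k K) : Scheme.{u})) ≤
      Cardinal.mk (irreducibleComponents (pullback f (ext k Ω) : Scheme.{u})) := by
  obtain ⟨M, _, _, _, ⟨φ⟩, ⟨ι⟩⟩ := exists_common_algClosed (k := k) Ω K
  have := geometricallyIrreducible_extMap_of_algClosed φ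
  have := geometricallyIrreducible_baseMap f φ
  let e := ((baseMap f φ).irreducibleComponentsEquiv (baseMap f φ).isOpenMap)
  rw [← Cardinal.mk_congr e]
  let g := baseMap f ι
  have hz : ∀ T : irreducibleComponents (pullback f (ext k K) : Scheme.{u}),
      ∃ z, IsGenericPoint (g z) T.1 := fun T => by
    obtain ⟨η, hη⟩ := QuasiSober.sober T.2.1 (isClosed_of_mem_irreducibleComponents _ T.2)
    obtain ⟨z, rfl⟩ := g.surjective η
    exact ⟨z, hη⟩
  choose z hz using hz
  refine Cardinal.mk_le_of_injective (f := fun T => (⟨irreducibleComponent (z T),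
    irreducibleComponent_mem_irreducibleComponents _⟩ : irreducibleComponents (pullback f (ext k M) : Scheme.{u}))) ?_
  intro T T' hTT'
  have hTT : irreducibleComponent (z T) = irreducibleComponent (z T') := congrArg Subtype.val hTT'
  have hirr : IsIrreducible (closure (g '' irreducibleComponent (z T))) :=
    (isIrreducible_irreducibleComponent.image g g.continuous.continuousOn).closure
  have key : ∀ S : irreducibleComponents (pullback f (ext k K) : Scheme.{u}),
      g (z S) ∈ g '' irreducibleComponent (z T) → S.1 = closure (g '' irreducibleComponent (z T)) := fun S hS => by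
    have hsub : S.1 ⊆ closure (g '' irreducibleComponent (z T)) := by
      rw [← (hz S).def]; exact closure_mono (Set.singleton_subset_iff.2 hS)
    exact subset_antisymm hsub (S.2.2 hirr hsub)
  exact Subtype.ext ((key T ⟨z T, mem_irreducibleComponent, rfl⟩).trans
    (key T' ⟨z T', hTT ▸ mem_irreducibleComponent, rfl⟩).symm)

/-- Algebraically closed fields have the most connected components. -/
theorem mk_connectedComponents_le (K Ω : Type u) [Field K] [Algebra k K] [Field Ω] [Algebra k Ω] [IsAlgClosed Ω] :
    Cardinal.mk (_root_.ConnectedComponents (pullback f (ext k K) : Scheme.{u})) ≤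
      Cardinal.mk (_root_.ConnectedComponents (pullback f (ext k Ω) : Scheme.{u})) := by
  obtain ⟨M, _, _, _, ⟨φ⟩, ⟨ι⟩⟩ := exists_common_algClosed (k := k) Ω K
  have := geometricallyIrreducible_extMap_of_algClosed φ
  have := geometricallyIrreducible_baseMap f φ
  have := geometricallyConnected_of_irreducible (baseMap f φ)
  rw [← Cardinal.mk_congr ((baseMap f φ).connectedComponentsHomeomorph (baseMap f φ).isOpenMap).toEquiv]
  refine Cardinal.mk_le_of_surjective (f := (baseMap f ι).continuous.connectedComponentsMap) fun c => ?_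
  obtain ⟨a, rfl⟩ := ConnectedComponents.surjective_coe c
  obtain ⟨b, rfl⟩ := (baseMap f ι).surjective a
  exact ⟨b, rfl⟩

theorem bijective_connectedComponentsMap [IsSepClosed k] (K : Type u) [Field K] [Algebra k K] :
    Function.Bijective (Continuous.connectedComponentsMap (pullback.fst f (ext k K)).continuous) := by
  refine ⟨fun a b hab => ?_, fun c => ?_⟩
  · obtain ⟨a, rfl⟩ := ConnectedComponents.surjective_coe a
    obtain ⟨b, rfl⟩ := ConnectedComponents.surjective_coe b
    have h : connectedComponent (pullback.fst f (ext k K) a) = connectedComponent (pullback.fst f (ext k K) b) :=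
      ConnectedComponents.coe_eq_coe.1 hab
    have hpre := isConnected_preimage f K (isConnected_connectedComponent (x := pullback.fst f (ext k K) a))
    refine ConnectedComponents.coe_eq_coe.2 (connectedComponent_eq ?_)
    exact hpre.2.subset_connectedComponent mem_connectedComponent (h ▸ mem_connectedComponent)
  · obtain ⟨a, rfl⟩ := ConnectedComponents.surjective_coe c
    have := surjective_ext (k := k) K
    obtain ⟨b, rfl⟩ := (pullback.fst f (ext k K)).surjective a
    exact ⟨b, rfl⟩

theorem eq_of_image_eq [IsSepClosed k] (K : Type u) [Field K] [Algebra k K]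
    {T T' : Set ↥(pullback f (ext k K) : Scheme.{u})} (hT : T ∈ irreducibleComponents ↥(pullback f (ext k K) : Scheme.{u}))
    (hT' : T' ∈ irreducibleComponents ↥(pullback f (ext k K) : Scheme.{u}))
    (h : pullback.fst f (ext k K) '' T = pullback.fst f (ext k K) '' T') : T = T' := by
  have hirr := isIrreducible_preimage f K (hT.1.image _ (pullback.fst f (ext k K)).continuous.continuousOn)
  have h1 : T ⊆ pullback.fst f (ext k K) ⁻¹' (pullback.fst f (ext k K) '' T) := Set.subset_preimage_image _ _
  have h2 : T' ⊆ pullback.fst f (ext k K) ⁻¹' (pullback.fst f (ext k K) '' T) := h ▸ Set.subset_preimage_image _ _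
  exact (subset_antisymm h1 (hT.2 hirr h1)).trans (subset_antisymm h2 (hT'.2 hirr h2)).symm

theorem preimage_component_eq (K : Type u) [Field K] [Algebra k K] {T : Set ↥X} (hT : T ∈ irreducibleComponents ↥X) :
    pullback.fst f (ext k K) ⁻¹' T = ⋃₀ {Z | Z ∈ irreducibleComponents ↥(pullback f (ext k K) : Scheme.{u}) ∧
      Z ⊆ pullback.fst f (ext k K) ⁻¹' T} := by
  refine subset_antisymm (fun z hz => ?_) (Set.sUnion_subset fun Z hZ => hZ.2)
  have hc := isClosed_of_mem_irreducibleComponents _ hT
  obtain ⟨η, hη⟩ := QuasiSober.sober hT.1 hc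
  have : Flat (ext k K) := by
    rw [Flat.SpecMap_iff]
    exact (RingHom.flat_algebraMap_iff (R := k) (S := K)).2 inferInstance
  obtain ⟨z', hz', hzη⟩ := Flat.generalizingMap (pullback.fst f (ext k K)) (hη.specializes hz)
  refine ⟨irreducibleComponent z', ⟨irreducibleComponent_mem_irreducibleComponents _, fun w hw => ?_⟩,
    hz'.mem_closed isClosed_irreducibleComponent mem_irreducibleComponent⟩
  have hirr := (isIrreducible_irreducibleComponent (x := z')).image _
    (pullback.fst f (ext k K)).continuous.continuousOn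
  have hη' : η ∈ pullback.fst f (ext k K) '' irreducibleComponent z' := ⟨z', mem_irreducibleComponent, hzη⟩
  have hTsub : T ⊆ closure (pullback.fst f (ext k K) '' irreducibleComponent z') := by
    rw [← hη.def]; exact closure_mono (Set.singleton_subset_iff.2 hη')
  exact hT.2 hirr.closure hTsub (subset_closure ⟨w, hw, rfl⟩)

theorem isConnected_preimage_component (K : Type u) [Field K] [Algebra k K] {Y : Set ↥X}
    (hY : IsIrreducible (pullback.fst f (ext k K) ⁻¹' Y)) (hYc : _root_.IsPreconnected Y) {y : X} (hy : y ∈ Y) :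
    _root_.IsConnected (pullback.fst f (ext k K) ⁻¹' connectedComponent y) := by
  have := surjective_ext (k := k) K
  obtain ⟨z, hz⟩ := (pullback.fst f (ext k K)).surjective y
  suffices heq : pullback.fst f (ext k K) ⁻¹' connectedComponent y = connectedComponent z from
    heq ▸ isConnected_connectedComponent
  refine subset_antisymm (fun p hp => ?_) fun p hp => ?_
  · have hC : y ∈ connectedComponent (pullback.fst f (ext k K) p) := by
      rw [← connectedComponent_eq hp]
      exact mem_connectedComponent
    rw [← image_component] at hC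
    obtain ⟨q, hq, hqy⟩ := hC
    have hqR : q ∈ pullback.fst f (ext k K) ⁻¹' Y := by rw [Set.mem_preimage, hqy]; exact hy
    have hzR : z ∈ pullback.fst f (ext k K) ⁻¹' Y := by rw [Set.mem_preimage, hz]; exact hy
    have := hY.isPreirreducible.isPreconnected.subset_connectedComponent hzR hqR
    rw [connectedComponent_eq this, ← connectedComponent_eq hq]
    exact mem_connectedComponent
  · have := (pullback.fst f (ext k K)).continuous.image_connectedComponent_subset z ⟨p, hp, rfl⟩
    rwa [hz] at this

theorem geometricallyIrreducible_of_cover {ι : Type u} (U : ι → X.Opens) (hne : Nonempty ι) (hcov : (⨆ i, U i) = ⊤)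
    (hmeet : ∀ i j, ((U i : Set X) ∩ (U j : Set X)).Nonempty)
    (hU : ∀ i, GeometricallyIrreducible ((U i).ι ≫ f)) : GeometricallyIrreducible f := by
  refine ⟨geometrically_iff_of_isClosedUnderIsomorphisms.mpr fun E _ y => ?_⟩
  obtain ⟨ψ, rfl⟩ := Spec.map_surjective y
  let := ψ.hom.toAlgebra
  show IrreducibleSpace (pullback f (ext k E) : Scheme.{u})
  have := surjective_ext (k := k) E
  have hirr : ∀ i, IsIrreducible (pullback.fst f (ext k E) ⁻¹' (U i : Set X)) := fun i => by
    have := hU i
    have hI : IrreducibleSpace (pullback ((U i).ι ≫ f) (ext k E) : Scheme.{u}) :=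
      GeometricallyIrreducible.geometrically_irreducibleSpace (f := (U i).ι ≫ f) _ _ _ (IsPullback.of_hasPullback _ _)
    let m := pullback.map ((U i).ι ≫ f) (ext k E) f (ext k E) (U i).ι (𝟙 _) (𝟙 _) (by simp) (by simp)
    have hR : Set.range m = pullback.fst f (ext k E) ⁻¹' (U i : Set X) := by
      refine (Scheme.Pullback.range_map ..).trans ?_
      simp
    rw [← hR, ← Set.image_univ]
    exact (IrreducibleSpace.isIrreducible_univ _).image _ m.continuous.continuousOn
  obtain ⟨i⟩ := hne
  refine @IrreducibleSpace.mk _ _ ⟨fun V W hV hW hV' hW' => ?_⟩ ?_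
  · obtain ⟨a, -, ha⟩ := hV'
    obtain ⟨b, -, hb⟩ := hW'
    obtain ⟨i, hai⟩ := TopologicalSpace.Opens.mem_iSup.1 (hcov ▸ trivial : pullback.fst f (ext k E) a ∈ ⨆ i, U i)
    obtain ⟨j, hbj⟩ := TopologicalSpace.Opens.mem_iSup.1 (hcov ▸ trivial : pullback.fst f (ext k E) b ∈ ⨆ i, U i)
    obtain ⟨t, hti, htj⟩ := hmeet i j
    obtain ⟨t', rfl⟩ := (pullback.fst f (ext k E)).surjective t
    have hoj : IsOpen (pullback.fst f (ext k E) ⁻¹' (U j : Set X)) :=
      (U j).2.preimage (pullback.fst f (ext k E)).continuous
    obtain ⟨c, hci, hcV, hcj⟩ := (hirr i).2 V _ hV hoj ⟨a, hai, ha⟩ ⟨t', hti, htj⟩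
    obtain ⟨d, -, ⟨hdV, -⟩, hdW⟩ := (hirr j).2 _ W (hV.inter hoj) hW ⟨c, hcj, hcV, hcj⟩ ⟨b, hbj, hb⟩
    exact ⟨d, trivial, hdV, hdW⟩
  · obtain ⟨t, -⟩ := hmeet i i
    obtain ⟨t', -⟩ := (pullback.fst f (ext k E)).surjective t
    exact ⟨t'⟩

theorem isUnivHomeo_fst_of_purelyInseparable (K : Type u) [Field K] [Algebra k K] [IsPurelyInseparable k K] :
    MorphismProperty.universally (topologically (fun g => IsHomeomorph g)) (pullback.fst f (ext k K)) := by
  have h1 : UniversallyInjective (ext k K) := by
    refine ((tfae_universallyInjective _).out 0 1).mpr ?_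
    intro F hF g₁ g₂ h
    let _ : Field F := hF
    obtain ⟨a, rfl⟩ := Spec.map_surjective g₁
    obtain ⟨b, rfl⟩ := Spec.map_surjective g₂
    simp only [← Spec.map_comp] at h
    congr 1
    ext1
    exact IsPurelyInseparable.injective_comp_algebraMap k K F (congrArg CommRingCat.Hom.hom (Spec.map_injective h))
  have h2 : IsIntegralHom (ext k K) := by
    rw [IsIntegralHom.SpecMap_iff]
    exact algebraMap_isIntegral_iff.2 (Algebra.IsAlgebraic.isIntegral)
  have h3 := surjective_ext (k := k) K
  intro Z W i₁ i₂ q hq
  have hf := IsPullback.of_hasPullback f (ext k K)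
  have a1 : UniversallyInjective q := MorphismProperty.of_isPullback (P := @UniversallyInjective) hq.flip
    (MorphismProperty.of_isPullback (P := @UniversallyInjective) hf.flip h1)
  have a2 : IsIntegralHom q := MorphismProperty.of_isPullback (P := @IsIntegralHom) hq.flip
    (MorphismProperty.of_isPullback (P := @IsIntegralHom) hf.flip h2)
  have a3 : Surjective q := MorphismProperty.of_isPullback (P := @Surjective) hq.flip
    (MorphismProperty.of_isPullback (P := @Surjective) hf.flip h3)
  exact isHomeomorph_iff_continuous_isClosedMap_bijective.2 ⟨q.continuous, q.isClosedMap, q.injective, q.surjective⟩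

variable (X)

/-- Fibres over points with trivial residue field are singletons; such points dense gives irreducibility. -/
theorem geometricallyIrreducible_of_dense [IrreducibleSpace X]
    (hd : Dense {x : ↥X | ∃ φ : CommRingCat.of k ⟶ X.residueField x,
      Function.Surjective φ ∧ X.fromSpecResidueField x ≫ f = Spec.map φ}) :
    GeometricallyIrreducible f := by
  refine ⟨geometrically_iff_of_isClosedUnderIsomorphisms.mpr fun E _ y => ?_⟩
  obtain ⟨ψ, rfl⟩ := Spec.map_surjective y
  let := ψ.hom.toAlgebra
  show IrreducibleSpace (pullback f (ext k E) : Scheme.{u})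
  have := surjective_ext (k := k) E
  have hne : Nonempty ↥(pullback f (ext k E) : Scheme.{u}) := by
    obtain ⟨t⟩ := (inferInstance : Nonempty X)
    exact ⟨((pullback.fst f (ext k E)).surjective t).choose⟩
  have := MorphismProperty.pullback_fst (P := @UniversallyOpen) f (ext k E) inferInstance
  refine @IrreducibleSpace.mk _ _ ⟨fun V W hV hW hV' hW' => ?_⟩ hne
  obtain ⟨a, -, ha⟩ := hV'
  obtain ⟨b, -, hb⟩ := hW'
  obtain ⟨t, -, htV, htW⟩ := PreirreducibleSpace.isPreirreducible_univ (X := X)
    (pullback.fst f (ext k E) '' V) (pullback.fst f (ext k E) '' W)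
    ((pullback.fst f (ext k E)).isOpenMap _ hV) ((pullback.fst f (ext k E)).isOpenMap _ hW)
    ⟨_, trivial, a, ha, rfl⟩ ⟨_, trivial, b, hb, rfl⟩
  obtain ⟨x, ⟨hxV, hxW⟩, φ, hφ, hx⟩ := hd.inter_open_nonempty _
    (((pullback.fst f (ext k E)).isOpenMap _ hV).inter ((pullback.fst f (ext k E)).isOpenMap _ hW)) ⟨t, htV, htW⟩
  obtain ⟨a, ha, hax⟩ := hxV
  obtain ⟨b, hb, hbx⟩ := hxW
  let _ : Algebra k (X.residueField x) := φ.hom.toAlgebra
  let m : pullback (ext k (X.residueField x)) (ext k E) ⟶ pullback f (ext k E) :=
    pullback.map _ _ _ _ (X.fromSpecResidueField x) (𝟙 _) (𝟙 _) (by rw [Category.comp_id, hx]; rfl) (by simp)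
  have hR : Set.range m = pullback.fst f (ext k E) ⁻¹' {x} := by
    refine (Scheme.Pullback.range_map ..).trans ?_
    simp
    exact congrArg _ (X.range_fromSpecResidueField x)
  have hsub : Subsingleton ↥(pullback (ext k (X.residueField x)) (ext k E)) := by
    have hs : Function.Surjective (algebraMap E (E ⊗[k] (X.residueField x : Type u))) := fun t => by
      induction t using TensorProduct.induction_on with
      | zero => exact ⟨0, map_zero _⟩
      | tmul c d =>
        obtain ⟨d, rfl⟩ := hφ d
        refine ⟨d • c, ?_⟩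
        rw [Algebra.TensorProduct.algebraMap_apply, Algebra.algebraMap_self, RingHom.id_apply,
          TensorProduct.smul_tmul, Algebra.smul_def, mul_one]
        rfl
      | add u v hu hv =>
        obtain ⟨a, rfl⟩ := hu
        obtain ⟨b, rfl⟩ := hv
        exact ⟨a + b, map_add _ _ _⟩
    have hinj := PrimeSpectrum.comap_injective_of_surjective _ hs
    have : Subsingleton ↥(Spec (CommRingCat.of (E ⊗[k] (X.residueField x : Type u)))) := hinj.subsingleton
    exact ((pullbackSymmetry _ _ ≪≫ pullbackSpecIso k E (X.residueField x : Type u)).hom.homeomorph).injective.subsingleton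
  obtain ⟨a', rfl⟩ : a ∈ Set.range m := hR ▸ hax
  obtain ⟨b', rfl⟩ : b ∈ Set.range m := hR ▸ hbx
  exact ⟨m a', trivial, ha, by rw [Subsingleton.elim a' b']; exact hb⟩

end Groth.Agent.GeomIrr
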