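import Groth.Agent.GeomIrr.Count

/-!
A finite separable extension splitting all components.
-/

universe u

open CategoryTheory CategoryTheory.Limits AlgebraicGeometry
open scoped TensorProduct

namespace Groth.Agent.GeomIrr

open FieldExtConn

variable {k : Type u} [Field k] {X : Scheme.{u}} (f : X ⟶ Spec (CommRingCat.of k))

theorem preimage_baseMap_comp {A B C : Type u} [Field A] [Field B] [Field C] [Algebra k A] [Algebra k B] [Algebra k C]
    (φ : A →ₐ[k] B) (ψ : B →ₐ[k] C) (T : Set ↥(pullback f (ext k A))) :
    baseMap f ψ ⁻¹' (baseMap f φ ⁻¹' T) = baseMap f (ψ.comp φ) ⁻¹' T := by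
  rw [← baseMap_comp]; rfl

/-- A separably closed extension and any other sit over the middle field in an algebraically closed one. -/
theorem exists_over {L S E : Type u} [Field L] [Field S] [IsSepClosed S] [Field E] [Algebra k L] [Algebra k S]
    [Algebra k E] (φ : L →ₐ[k] S) (ψ : L →ₐ[k] E) :
    ∃ (M : Type u) (_ : Field M) (_ : Algebra k M) (a : S →ₐ[k] M) (b : E →ₐ[k] M),
      a.comp φ = b.comp ψ ∧ GeometricallyIrreducible (baseMap f a) := by
  let _ : Algebra L S := φ.toRingHom.toAlgebra
  let _ : Algebra L E := ψ.toRingHom.toAlgebra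
  obtain ⟨M, _, _, _, ⟨a⟩, ⟨b⟩⟩ := exists_common_algClosed (k := L) S E
  let _ : Algebra k M := ((algebraMap L M).comp (algebraMap k L)).toAlgebra
  let a' : S →ₐ[k] M := { a.toRingHom with
    commutes' := fun c => (congrArg a (φ.commutes c).symm).trans (a.commutes (algebraMap k L c)) }
  let b' : E →ₐ[k] M := { b.toRingHom with
    commutes' := fun c => (congrArg b (ψ.commutes c).symm).trans (b.commutes (algebraMap k L c)) }
  have hgi : GeometricallyIrreducible (extMap a') :=
    letI := a'.toRingHom.toAlgebra
    geometricallyIrreducible_ext (k := S) M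
  exact ⟨M, inferInstance, inferInstance, a', b', AlgHom.ext fun l => (a.commutes l).trans (b.commutes l).symm,
    geometricallyIrreducible_baseMap f a' (h := hgi)⟩

theorem isIrreducible_preimage_of_sepClosed {L S E : Type u} [Field L] [Field S] [IsSepClosed S] [Field E]
    [Algebra k L] [Algebra k S] [Algebra k E] (φ : L →ₐ[k] S) (ψ : L →ₐ[k] E) {T : Set ↥(pullback f (ext k L))}
    (hT : IsIrreducible (baseMap f φ ⁻¹' T)) : IsIrreducible (baseMap f ψ ⁻¹' T) := by
  obtain ⟨M, _, _, a, b, hab, _⟩ := exists_over f φ ψ
  have h1 := (baseMap f a).isIrreducible_preimage (baseMap f a).isOpenMap hT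
  rw [preimage_baseMap_comp, hab, ← preimage_baseMap_comp] at h1
  have h2 := h1.image _ (baseMap f b).continuous.continuousOn
  rwa [Set.image_preimage_eq _ (baseMap f b).surjective] at h2

theorem isConnected_preimage_of_sepClosed {L S E : Type u} [Field L] [Field S] [IsSepClosed S] [Field E]
    [Algebra k L] [Algebra k S] [Algebra k E] (φ : L →ₐ[k] S) (ψ : L →ₐ[k] E) {T : Set ↥(pullback f (ext k L))}
    (hT : _root_.IsConnected (baseMap f φ ⁻¹' T)) : _root_.IsConnected (baseMap f ψ ⁻¹' T) := by
  obtain ⟨M, _, _, a, b, hab, _⟩ := exists_over f φ ψ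
  have := geometricallyConnected_of_irreducible (baseMap f a)
  have h1 := isConnected_preimage_of_fibres (baseMap f a).isOpenMap (baseMap f a).isConnected_preimage_singleton hT
  rw [preimage_baseMap_comp, hab, ← preimage_baseMap_comp] at h1
  have h2 := h1.image _ (baseMap f b).continuous.continuousOn
  rwa [Set.image_preimage_eq _ (baseMap f b).surjective] at h2

section Sep

variable (S : Type u) [Field S] [Algebra k S] [Algebra.IsAlgebraic k S]

theorem exists_sup (K : Type u) [Field K] [Algebra k K] {ι : Type*} [Finite ι] (L : ι → Level (k := k) K) :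
    ∃ N : Level (k := k) K, ∀ i, (L i).1 ≤ N.1 := by
  classical
  have := Fintype.ofFinite ι
  suffices h : ∀ s : Finset ι, ∃ N : Level (k := k) K, ∀ i ∈ s, (L i).1 ≤ N.1 by
    obtain ⟨N, hN⟩ := h Finset.univ
    exact ⟨N, fun i => hN i (Finset.mem_univ i)⟩
  intro s
  induction s using Finset.induction_on with
  | empty => exact ⟨⟨⊥, inferInstance⟩, fun i hi => absurd hi (Finset.notMem_empty i)⟩
  | insert a s ha ih =>
    obtain ⟨N, hN⟩ := ih
    obtain ⟨N', h1, h2⟩ := level_directed K N (L a)
    exact ⟨N', fun i hi => (Finset.mem_insert.1 hi).elim (fun h => h ▸ h2) fun h => (hN i h).trans h1⟩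

/-- Some finite level separates the components. -/
theorem exists_level_irreducible (hfin : (genericPoints ↥(pullback f (ext k S))).Finite) :
    ∃ L : Level (k := k) S, ∀ Z' ∈ irreducibleComponents ↥(pullback f (ext k L.1)),
      IsIrreducible (baseMap f L.1.val ⁻¹' Z') := by
  classical
  have := hfin.to_subtype
  let G := genericPoints ↥(pullback f (ext k S))
  have hsep : ∀ p : G × G, ∃ L : Level (k := k) S,
      p.1 ≠ p.2 → baseMap f L.1.val p.1.1 ≠ baseMap f L.1.val p.2.1 := by
    rintro ⟨a, b⟩
    by_cases hab : a = b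
    · exact ⟨⟨⊥, inferInstance⟩, fun h => absurd hab h⟩
    have hns : ¬ a.1 ⤳ b.1 := fun h => hab (Subtype.ext ((h.antisymm ((mem_genericPoints_iff.1 b.2) _ h)).eq))
    rw [specializes_iff_forall_open] at hns
    push Not at hns
    obtain ⟨O, hO, hbO, haO⟩ := hns
    obtain ⟨L, O₀, -, hbO₀, hsub⟩ := exists_basis f O hO b.1 hbO
    exact ⟨L, fun _ h => haO (hsub (show baseMap f L.1.val a.1 ∈ O₀ from h ▸ hbO₀))⟩
  choose L hL using hsep
  obtain ⟨N, hN⟩ := exists_sup S L
  refine ⟨N, fun Z' hZ' => ?_⟩
  have hc := isClosed_of_mem_irreducibleComponents _ hZ'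
  obtain ⟨ζ, hζ⟩ := QuasiSober.sober hZ'.1 hc
  have hζg : ∀ y, y ⤳ ζ → ζ ⤳ y := by
    refine mem_genericPoints_iff.1 ?_
    show closure {ζ} ∈ irreducibleComponents _
    rw [hζ.def]; exact hZ'
  have hflat : Flat (baseMap f N.1.val) := baseMap_prop f @Flat _ (GeomRedAt.flat_SpecMap_field _)
  have key : ∀ w, baseMap f N.1.val w ∈ Z' → ∃ g : G, g.1 ⤳ w ∧ baseMap f N.1.val g.1 = ζ := by
    intro w hw
    obtain ⟨v, hv, hvζ⟩ := Flat.generalizingMap (baseMap f N.1.val) (hζ.specializes hw)
    obtain ⟨T, hT⟩ : ∃ T, T = irreducibleComponent v := ⟨_, rfl⟩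
    let g := genericPoints.ofComponent
      (⟨irreducibleComponent v, irreducibleComponent_mem_irreducibleComponents v⟩ : irreducibleComponents _)
    have hgv : g.1 ⤳ v := (genericPoints.isGenericPoint_ofComponent _).specializes mem_irreducibleComponent
    refine ⟨g, hgv.trans hv, ?_⟩
    have h1 : baseMap f N.1.val g.1 ⤳ ζ := hvζ ▸ hgv.map (baseMap f N.1.val).continuous
    exact (h1.antisymm (hζg _ h1)).eq
  obtain ⟨w₀, hw₀⟩ := (baseMap f N.1.val).surjective ζ
  obtain ⟨g₀, -, hg₀⟩ := key w₀ (hw₀ ▸ hζ.mem)
  have hgen : IsGenericPoint g₀.1 (baseMap f N.1.val ⁻¹' Z') := by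
    refine subset_antisymm (closure_minimal (Set.singleton_subset_iff.2 ?_) (hc.preimage (baseMap f N.1.val).continuous)) ?_
    · rw [Set.mem_preimage, hg₀]; exact hζ.mem
    · intro w hw
      obtain ⟨g, hgw, hgζ⟩ := key w hw
      suffices g = g₀ from this ▸ hgw.mem_closure
      by_contra hne
      refine hL (g, g₀) hne ?_
      rw [← baseMap_level f (hN (g, g₀)), ← baseMap_level f (hN (g, g₀)), hgζ, hg₀]
  exact hgen.isIrreducible

/-- Some finite level separates the connected components. -/
theorem exists_level_connected (hfin : Finite (_root_.ConnectedComponents ↥(pullback f (ext k S)))) :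
    ∃ L : Level (k := k) S, ∀ x' : ↥(pullback f (ext k L.1)),
      _root_.IsConnected (baseMap f L.1.val ⁻¹' connectedComponent x') := by
  classical
  let G := _root_.ConnectedComponents ↥(pullback f (ext k S))
  have hsep : ∀ p : G × G, ∃ L : Level (k := k) S, ∀ a b, ConnectedComponents.mk a = p.1 → ConnectedComponents.mk b = p.2 →
      p.1 ≠ p.2 → baseMap f L.1.val b ∉ connectedComponent (baseMap f L.1.val a) := by
    rintro ⟨A, B⟩
    obtain ⟨a₀, rfl⟩ := ConnectedComponents.surjective_coe A
    obtain ⟨b₀, rfl⟩ := ConnectedComponents.surjective_coe B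
    by_cases hab : (a₀ : G) = b₀
    · exact ⟨⟨⊥, inferInstance⟩, fun _ _ _ _ h => absurd hab h⟩
    have hb : b₀ ∉ limComp f a₀ := fun h => hab (ConnectedComponents.coe_eq_coe.2
      (connectedComponent_eq ((limComp_preconnected f a₀).subset_connectedComponent
        (Set.mem_iInter.2 fun L => mem_connectedComponent) h)))
    obtain ⟨L, hL⟩ : ∃ L : Level (k := k) S, baseMap f L.1.val b₀ ∉ comp f a₀ L := by
      by_contra! hall
      exact hb (Set.mem_iInter.2 hall)
    refine ⟨L, fun a b ha hb' _ h => hL ?_⟩
    have e1 := (baseMap f L.1.val).continuous.image_connectedComponent_subset a ⟨a₀,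
      (ConnectedComponents.coe_eq_coe.1 ha).symm ▸ mem_connectedComponent, rfl⟩
    have e2 := (baseMap f L.1.val).continuous.image_connectedComponent_subset b ⟨b₀,
      (ConnectedComponents.coe_eq_coe.1 hb').symm ▸ mem_connectedComponent, rfl⟩
    show baseMap f L.1.val b₀ ∈ connectedComponent (baseMap f L.1.val a₀)
    rw [← connectedComponent_eq e1, connectedComponent_eq h]
    exact e2
  choose L hL using hsep
  obtain ⟨N, hN⟩ := exists_sup S L
  refine ⟨N, fun x' => ?_⟩
  obtain ⟨a, rfl⟩ := (baseMap f N.1.val).surjective x'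
  have heq : baseMap f N.1.val ⁻¹' connectedComponent (baseMap f N.1.val a) = connectedComponent a := by
    refine subset_antisymm (fun b hb => ?_) fun b hb => ?_
    · by_contra hne
      have hne' : (a : G) ≠ b := fun h => hne (ConnectedComponents.coe_eq_coe.1 h ▸ mem_connectedComponent)
      refine hL ((a : G), (b : G)) a b rfl rfl hne' ?_
      rw [← baseMap_level f (hN _), ← baseMap_level f (hN _)]
      exact (baseMap f (IntermediateField.inclusion (hN ((a : G), (b : G))))).continuous.image_connectedComponent_subset _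
        ⟨_, hb, rfl⟩
    · exact (baseMap f N.1.val).continuous.image_connectedComponent_subset a ⟨b, hb, rfl⟩
  rw [heq]
  exact isConnected_connectedComponent

end Sep

/-- All components are geometrically irreducible over some finite separable extension. -/
theorem exists_finite_separable_irreducible [Finite (irreducibleComponents ↥X)]
    (hx : ∀ x ∈ genericPoints ↥X, ∃ φ : k →+* X.residueField x,
      Spec.map (CommRingCat.ofHom φ) = X.fromSpecResidueField x ≫ f ∧
      (letI := φ.toAlgebra; FiniteDimensional k (separableClosure k (X.residueField x)))) :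
    ∃ (L : Type u) (_ : Field L) (_ : Algebra k L), FiniteDimensional k L ∧ Algebra.IsSeparable k L ∧
      ∀ Z' ∈ irreducibleComponents ↥(pullback f (ext k L)), ∀ (E : Type u) [Field E] [Algebra k E]
        (ψ : L →ₐ[k] E), IsIrreducible (baseMap f ψ ⁻¹' Z') := by
  have hG : Finite (genericPoints ↥X) := Finite.of_equiv _ genericPoints.equiv.symm
  have hfin : (genericPoints ↥(pullback f (ext k (SeparableClosure k)))).Finite := by
    have hall : ∀ x : genericPoints ↥X, {z ∈ genericPoints ↥(pullback f (ext k (SeparableClosure k))) |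
        pullback.fst f (ext k (SeparableClosure k)) z = x.1}.Finite := fun x => by
      obtain ⟨φ, h1, h2⟩ := hx x.1 x.2
      exact finite_genericPoints_over f x.2 h1 h2 _
    refine (Set.finite_iUnion hall).subset fun z hz => ?_
    exact Set.mem_iUnion.2 ⟨⟨_, fst_mem_genericPoints f hz⟩, hz, rfl⟩
  obtain ⟨L, hL⟩ := exists_level_irreducible f (SeparableClosure k) hfin
  refine ⟨L.1, inferInstance, inferInstance, L.2,
    Algebra.isSeparable_tower_bot_of_isSeparable k L.1 (SeparableClosure k), fun Z' hZ' E _ _ ψ => ?_⟩
  exact isIrreducible_preimage_of_sepClosed f L.1.val ψ (hL Z' hZ')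

/-- A bound for the components over one point. -/
theorem finite_connectedComponents [ConnectedSpace X] {x : X} {φ : k →+* X.residueField x}
    (hφ : Spec.map (CommRingCat.ofHom φ) = X.fromSpecResidueField x ≫ f)
    (hfd : letI := φ.toAlgebra; FiniteDimensional k (separableClosure k (X.residueField x)))
    (L : Type u) [Field L] [Algebra k L]
    (hsplit : letI := φ.toAlgebra; ∀ s : separableClosure k (X.residueField x),
      ((minpoly k s).map (algebraMap k L)).Splits) :
    Finite (_root_.ConnectedComponents ↥(pullback f (ext k L))) ∧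
      Nat.card (_root_.ConnectedComponents ↥(pullback f (ext k L))) ≤
        (letI := φ.toAlgebra; Module.finrank k (separableClosure k (X.residueField x))) := by
  obtain ⟨m, hR, _⟩ := exists_fibre_map f hφ L
  let _ : Algebra k (X.residueField x) := φ.toAlgebra
  obtain ⟨hfin, hc⟩ := natCard_components_of_splits (k := k) (X.residueField x : Type u) L hsplit
  let g : irreducibleComponents ↥(pullback (ext k L) (ext k (X.residueField x : Type u))) →
      _root_.ConnectedComponents ↥(pullback f (ext k L)) :=
    fun T => ConnectedComponents.mk (m (genericPoints.ofComponent T).1)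
  have hsurj : Function.Surjective g := fun c => by
    obtain ⟨z, rfl⟩ := ConnectedComponents.surjective_coe c
    have hxz : x ∈ connectedComponent (pullback.fst f (ext k L) z) := by
      rw [PreconnectedSpace.connectedComponent_eq_univ]; trivial
    rw [← image_component] at hxz
    obtain ⟨q, hq, hqx⟩ := hxz
    obtain ⟨w, rfl⟩ : q ∈ Set.range m := hR ▸ hqx
    let T : irreducibleComponents ↥(pullback (ext k L) (ext k (X.residueField x : Type u))) :=
      ⟨irreducibleComponent w, irreducibleComponent_mem_irreducibleComponents w⟩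
    refine ⟨T, ConnectedComponents.coe_eq_coe.2 ?_⟩
    have hsp : m (genericPoints.ofComponent T).1 ⤳ m w :=
      ((genericPoints.isGenericPoint_ofComponent T).specializes mem_irreducibleComponent).map m.continuous
    rw [connectedComponent_eq hq]
    exact connectedComponent_eq
      (isPreconnected_singleton.closure.subset_connectedComponent (subset_closure rfl) hsp.mem_closure)
  exact ⟨Finite.of_surjective g hsurj, (Nat.card_le_card_of_surjective g hsurj).trans hc.le⟩

end Groth.Agent.GeomIrr
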