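import Groth.Agent.GeomIrr.Square

/-!
Components of base changes counted by the separable closure of the base field in the residue fields.
-/

universe u

open CategoryTheory CategoryTheory.Limits AlgebraicGeometry
open scoped TensorProduct

namespace Groth.Agent.GeomIrr

open FieldExtConn

section Topology

variable {A B : Type*} [TopologicalSpace A] [TopologicalSpace B]

/-- Maximal points for specialisation are the generic points of the components. -/
theorem mem_genericPoints_iff [QuasiSober A] {x : A} : x ∈ genericPoints A ↔ ∀ y, y ⤳ x → x ⤳ y := by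
  refine ⟨fun hx y hy => ?_, fun h => ?_⟩
  · have h1 : closure {x} ⊆ closure {y} := closure_minimal (Set.singleton_subset_iff.2 hy.mem_closure) isClosed_closure
    exact specializes_iff_mem_closure.2 ((hx : closure {x} ∈ irreducibleComponents A).2 isIrreducible_singleton.closure h1 (subset_closure rfl))
  · refine ⟨isIrreducible_singleton.closure, fun Z hZ hle => ?_⟩
    have hz := hZ.isGenericPoint_genericPoint_closure
    have h1 := h _ (hz.specializes (subset_closure (hle (subset_closure rfl))))
    intro a ha
    exact (h1.trans (hz.specializes (subset_closure ha))).mem_closure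

/-- A fibre containing all generisations of its points has as components those of the whole through it. -/
noncomputable def genericPointsEquiv [QuasiSober A] [QuasiSober B] {m : A → B} (hm : Topology.IsEmbedding m)
    (hgen : ∀ a : A, ∀ b : B, b ⤳ m a → b ∈ Set.range m) (hall : genericPoints B ⊆ Set.range m) :
    genericPoints A ≃ genericPoints B :=
  Equiv.ofBijective (fun a => ⟨m a.1, mem_genericPoints_iff.2 fun b hb => by
      obtain ⟨c, rfl⟩ := hgen a.1 b hb
      exact (mem_genericPoints_iff.1 a.2 c (hm.isInducing.specializes_iff.1 hb)).map hm.continuous⟩)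
    ⟨fun a b hab => Subtype.ext (hm.injective (congrArg Subtype.val hab)), fun b => by
      obtain ⟨a, ha⟩ := hall b.2
      refine ⟨⟨a, mem_genericPoints_iff.2 fun c hc => ?_⟩, Subtype.ext ha⟩
      rw [← hm.isInducing.specializes_iff]
      refine mem_genericPoints_iff.1 (ha ▸ b.2) _ (hc.map hm.continuous)⟩

/-- In a discrete space every point is a component. -/
noncomputable def componentsEquivOfDiscrete [DiscreteTopology A] : irreducibleComponents A ≃ A :=
  (genericPoints.equiv (α := A)).symm.trans (Equiv.subtypeUnivEquiv fun x =>
    mem_genericPoints_iff.2 fun y hy => specializes_of_eq hy.eq.symm)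

end Topology

variable {k : Type u} [Field k]

/-- A field is geometrically irreducible over the separable closure of the base in it. -/
theorem geometricallyIrreducible_extMap_separableClosure (K : Type u) [Field K] [Algebra k K] :
    GeometricallyIrreducible (extMap (separableClosure k K).val) := by
  let S := separableClosure k K
  have hS : separableClosure S K = ⊥ := separableClosure.separableClosure_eq_bot k K
  have := isDomain_tensor_sepClosure (k := S) K hS
  have : IrreducibleSpace ↥(Spec (CommRingCat.of (K ⊗[S] SeparableClosure S))) :=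
    (inferInstance : IrreducibleSpace (PrimeSpectrum (K ⊗[S] SeparableClosure S)))
  have : IrreducibleSpace ↥(pullback (ext S K) (ext S (SeparableClosure S))) :=
    (pullbackSpecIso S K (SeparableClosure S)).hom.homeomorph.irreducibleSpace_iff.2 this
  exact geometricallyIrreducible_of_isSepClosed (ext S K) (SeparableClosure S)

/-- Points of `Spec (L ⊗ S)` are embeddings, when `L` splits `S`. -/
theorem natCard_tensor_of_splits (S L : Type u) [Field S] [Field L] [Algebra k S] [Algebra k L]
    [FiniteDimensional k S] [Algebra.IsSeparable k S]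
    (hsplit : ∀ s : S, ((minpoly k s).map (algebraMap k L)).Splits) :
    Nat.card (PrimeSpectrum (L ⊗[k] S)) = Module.finrank k S := by
  rw [← AlgHom.natCard_of_splits k S L hsplit]
  symm
  let E : (S →ₐ[k] L) → L ⊗[k] S →ₐ[L] L := fun σ =>
    Algebra.TensorProduct.lift (AlgHom.id L L) σ fun _ _ => Commute.all _ _
  let Φ : (S →ₐ[k] L) → PrimeSpectrum (L ⊗[k] S) := fun σ => ⟨RingHom.ker (E σ), RingHom.ker_isPrime _⟩
  refine Nat.card_eq_of_bijective Φ ⟨fun σ τ h => AlgHom.ext fun s => ?_, fun q => ?_⟩
  · have h1 : (1 : L) ⊗ₜ[k] s - σ s ⊗ₜ[k] (1 : S) ∈ (Φ σ).asIdeal := by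
      show E σ _ = 0
      simp [E]
    rw [h] at h1
    have h2 : E τ ((1 : L) ⊗ₜ[k] s - σ s ⊗ₜ[k] (1 : S)) = 0 := h1
    simp [E] at h2
    exact (sub_eq_zero.1 h2).symm
  · let F := (L ⊗[k] S) ⧸ q.asIdeal
    let ι : L →ₐ[k] F := (Ideal.Quotient.mkₐ k q.asIdeal).comp Algebra.TensorProduct.includeLeft
    let τ : S →ₐ[k] F := (Ideal.Quotient.mkₐ k q.asIdeal).comp Algebra.TensorProduct.includeRight
    have hι : Function.Injective ι := ι.toRingHom.injective
    have hmem : ∀ s, τ s ∈ ι.range := by
      intro s
      have h0 : Polynomial.aeval (τ s) (minpoly k s) = 0 := by rw [Polynomial.aeval_algHom_apply, minpoly.aeval, map_zero]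
      have hs := hsplit s
      rw [hs.eq_prod_roots_of_monic ((minpoly.monic (Algebra.IsIntegral.isIntegral s)).map _)] at hs
      have h1 : ((minpoly k s).map (algebraMap k L)).eval₂ ι.toRingHom (τ s) = 0 := by
        rw [Polynomial.eval₂_map, AlgHom.toRingHom_eq_coe, AlgHom.comp_algebraMap]
        exact h0
      rw [(hsplit s).eq_prod_roots_of_monic ((minpoly.monic (Algebra.IsIntegral.isIntegral s)).map _),
        Polynomial.eval₂_multiset_prod, Multiset.prod_eq_zero_iff] at h1
      simp only [Multiset.map_map, Multiset.mem_map, Function.comp_apply, Polynomial.eval₂_sub,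
        Polynomial.eval₂_X, Polynomial.eval₂_C] at h1
      obtain ⟨r, -, hr⟩ := h1
      exact ⟨r, (sub_eq_zero.1 hr).symm⟩
    let σ : S →ₐ[k] L := (AlgEquiv.ofInjective ι hι).symm.toAlgHom.comp (τ.codRestrict ι.range hmem)
    have hσ : ∀ s, ι (σ s) = τ s := fun s => by
      have := congrArg Subtype.val ((AlgEquiv.ofInjective ι hι).apply_symm_apply ⟨τ s, hmem s⟩)
      exact this
    refine ⟨σ, PrimeSpectrum.ext ?_⟩
    have hcomp : ∀ t, Ideal.Quotient.mk q.asIdeal t = ι (E σ t) := fun t => by
      induction t using TensorProduct.induction_on with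
      | zero => simp
      | tmul a s =>
        simp only [E, Algebra.TensorProduct.lift_tmul, AlgHom.coe_id, id_eq, map_mul, hσ]
        show _ = Ideal.Quotient.mk _ _ * Ideal.Quotient.mk _ _
        rw [← map_mul]
        simp [Algebra.TensorProduct.tmul_mul_tmul]
      | add u v hu hv => simp only [map_add, hu, hv]
    show RingHom.ker (E σ) = q.asIdeal
    refine Ideal.ext fun t => ?_
    rw [RingHom.mem_ker, ← Ideal.Quotient.eq_zero_iff_mem (I := q.asIdeal), hcomp, map_eq_zero_iff _ hι]

/-- Finite algebras over fields have finite discrete spectrum. -/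
theorem finite_and_discrete (L A : Type u) [Field L] [CommRing A] [Algebra L A] [Module.Finite L A] :
    Finite (PrimeSpectrum A) ∧ DiscreteTopology (PrimeSpectrum A) :=
  have : IsArtinianRing A := IsArtinianRing.of_finite L A
  ⟨inferInstance, inferInstance⟩

/-- Components of a field tensored up correspond to points of the separable closure tensored up. -/
theorem exists_components_equiv (K L : Type u) [Field K] [Field L] [Algebra k K] [Algebra k L]
    [FiniteDimensional k (separableClosure k K)] :
    Finite (PrimeSpectrum (L ⊗[k] separableClosure k K)) ∧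
      Nonempty (irreducibleComponents ↥(pullback (ext k L) (ext k K)) ≃ PrimeSpectrum (L ⊗[k] separableClosure k K)) := by
  let S := separableClosure k K
  have := geometricallyIrreducible_extMap_separableClosure (k := k) K
  have := geometricallyIrreducible_baseMap (ext k L) S.val
  obtain ⟨hfin, hd'⟩ := finite_and_discrete L (L ⊗[k] S)
  have hd : DiscreteTopology ↥(Spec (CommRingCat.of (L ⊗[k] S))) := hd'
  refine ⟨hfin, ⟨?_⟩⟩
  refine ((baseMap (ext k L) S.val).irreducibleComponentsEquiv (baseMap (ext k L) S.val).isOpenMap).trans ?_
  let h := (pullbackSpecIso k L S).hom.homeomorph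
  have : DiscreteTopology ↥(pullback (ext k L) (ext k S)) := h.symm.discreteTopology
  exact componentsEquivOfDiscrete.trans h.toEquiv

theorem natCard_components_of_splits (K L : Type u) [Field K] [Field L] [Algebra k K] [Algebra k L]
    [FiniteDimensional k (separableClosure k K)]
    (hsplit : ∀ s : separableClosure k K, ((minpoly k s).map (algebraMap k L)).Splits) :
    Finite (irreducibleComponents ↥(pullback (ext k L) (ext k K))) ∧
      Nat.card (irreducibleComponents ↥(pullback (ext k L) (ext k K))) = Module.finrank k (separableClosure k K) := by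
  obtain ⟨hfin, ⟨e⟩⟩ := exists_components_equiv (k := k) K L
  exact ⟨Finite.of_equiv _ e.symm, (Nat.card_congr e).trans (natCard_tensor_of_splits _ _ hsplit)⟩

variable {X : Scheme.{u}} (f : X ⟶ Spec (CommRingCat.of k))

/-- The fibre of a base change over a point. -/
theorem exists_fibre_map {x : X} {φ : k →+* X.residueField x}
    (hφ : Spec.map (CommRingCat.ofHom φ) = X.fromSpecResidueField x ≫ f) (L : Type u) [Field L] [Algebra k L] :
    letI := φ.toAlgebra
    ∃ m : pullback (ext k L) (ext k (X.residueField x)) ⟶ pullback f (ext k L),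
      Set.range m = pullback.fst f (ext k L) ⁻¹' {x} ∧ IsPreimmersion m := by
  let K : Type u := X.residueField x
  let _ : Algebra k (X.residueField x) := φ.toAlgebra
  let i : Spec (CommRingCat.of K) ⟶ X := X.fromSpecResidueField x
  have hi : i ≫ f = ext k K := hφ.symm
  let m : pullback (ext k L) (ext k K) ⟶ pullback f (ext k L) :=
    pullback.lift (pullback.snd _ _ ≫ i) (pullback.fst _ _) (by rw [Category.assoc, hi]; exact pullback.condition.symm)
  have hsq : IsPullback (pullback.snd (ext k L) (ext k K)) m i (pullback.fst f (ext k L)) := by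
    refine IsPullback.of_bot ?_ (pullback.lift_fst _ _ _).symm (IsPullback.of_hasPullback f (ext k L))
    rw [pullback.lift_snd, hi]
    exact (IsPullback.of_hasPullback (ext k L) (ext k K)).flip
  refine ⟨m, ?_, MorphismProperty.of_isPullback (P := @IsPreimmersion) hsq
    (inferInstanceAs (IsPreimmersion (X.fromSpecResidueField x)))⟩
  have hr : Set.range i = {x} := X.range_fromSpecResidueField x
  refine Set.ext fun z => ⟨?_, fun hz => ?_⟩
  · rintro ⟨w, rfl⟩
    rw [Set.mem_preimage, ← hr, ← Scheme.Hom.comp_apply, ← hsq.w, Scheme.Hom.comp_apply]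
    exact ⟨_, rfl⟩
  · obtain ⟨a, ha⟩ : pullback.fst f (ext k L) z ∈ Set.range i := hr ▸ hz
    obtain ⟨w, -, hw⟩ := Scheme.exists_preimage_of_isPullback hsq a z ha
    exact ⟨w, hw⟩

theorem fst_mem_genericPoints {L : Type u} [Field L] [Algebra k L] {z : ↥(pullback f (ext k L))}
    (hz : z ∈ genericPoints ↥(pullback f (ext k L))) : pullback.fst f (ext k L) z ∈ genericPoints ↥X := by
  rw [mem_genericPoints_iff] at hz ⊢
  intro y hy
  have : Flat (ext k L) := GeomRedAt.flat_SpecMap_field _
  obtain ⟨w, hw, rfl⟩ := Flat.generalizingMap (pullback.fst f (ext k L)) hy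
  exact (hz w hw).map (pullback.fst f (ext k L)).continuous

/-- Finiteness of the generic points over one generic point. -/
theorem finite_genericPoints_over {x : X} (hx : x ∈ genericPoints ↥X) {φ : k →+* X.residueField x}
    (hφ : Spec.map (CommRingCat.ofHom φ) = X.fromSpecResidueField x ≫ f)
    (hfd : letI := φ.toAlgebra; FiniteDimensional k (separableClosure k (X.residueField x)))
    (L : Type u) [Field L] [Algebra k L] :
    {z ∈ genericPoints ↥(pullback f (ext k L)) | pullback.fst f (ext k L) z = x}.Finite := by
  obtain ⟨m, hR, _⟩ := exists_fibre_map f hφ L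
  let _ : Algebra k (X.residueField x) := φ.toAlgebra
  obtain ⟨hfin, ⟨e⟩⟩ := exists_components_equiv (k := k) (X.residueField x : Type u) L
  have : Finite (irreducibleComponents ↥(pullback (ext k L) (ext k (X.residueField x : Type u)))) :=
    Finite.of_equiv _ e.symm
  have : Finite (genericPoints ↥(pullback (ext k L) (ext k (X.residueField x : Type u)))) :=
    Finite.of_equiv _ genericPoints.equiv.symm
  refine ((Set.toFinite (genericPoints ↥(pullback (ext k L) (ext k (X.residueField x : Type u))))).image m).subset ?_
  rintro z ⟨hz, hzx⟩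
  obtain ⟨w, rfl⟩ : z ∈ Set.range m := hR ▸ hzx
  refine ⟨w, mem_genericPoints_iff.2 fun c hc => ?_, rfl⟩
  rw [← m.isEmbedding.isInducing.specializes_iff]
  exact mem_genericPoints_iff.1 hz _ (hc.map m.continuous)

/-- The number of components of the base change of an irreducible scheme. -/
theorem natCard_components_irreducible [IrreducibleSpace X] {φ : k →+* X.residueField (genericPoint X)}
    (hφ : Spec.map (CommRingCat.ofHom φ) = X.fromSpecResidueField (genericPoint X) ≫ f) (L : Type u) [Field L]
    [Algebra k L]
    (hfd : letI := φ.toAlgebra; FiniteDimensional k (separableClosure k (X.residueField (genericPoint X))))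
    (hsplit : letI := φ.toAlgebra; ∀ s : separableClosure k (X.residueField (genericPoint X)),
      ((minpoly k s).map (algebraMap k L)).Splits) :
    Nat.card (irreducibleComponents ↥(pullback f (ext k L))) =
      (letI := φ.toAlgebra; Module.finrank k (separableClosure k (X.residueField (genericPoint X)))) := by
  obtain ⟨m, hR, _⟩ := exists_fibre_map f hφ L
  let _ : Algebra k (X.residueField (genericPoint X)) := φ.toAlgebra
  obtain ⟨hfin, hc⟩ := natCard_components_of_splits (k := k) (X.residueField (genericPoint X) : Type u) L hsplit
  refine Eq.trans ?_ hc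
  refine Nat.card_congr ((genericPoints.equiv.symm.trans (genericPointsEquiv m.isEmbedding ?_ ?_).symm).trans
    genericPoints.equiv)
  · intro a b hb
    rw [hR]
    have ha : pullback.fst f (ext k L) (m a) = genericPoint X :=
      (hR ▸ Set.mem_range_self (f := m) a : m a ∈ pullback.fst f (ext k L) ⁻¹' {genericPoint X})
    have h1 := hb.map (pullback.fst f (ext k L)).continuous
    rw [ha] at h1
    exact (h1.antisymm (genericPoint_specializes _)).eq
  · intro z hz
    rw [hR]
    have := fst_mem_genericPoints f hz
    rwa [genericPoints_eq_singleton] at this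

end Groth.Agent.GeomIrr
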