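import Groth.Agent.GeomIrr.Galois
import Groth.Agent.FieldExtConn.TensorDomain

/-!
Geometrically irreducible algebras over fields, in terms of tensor products.
-/

universe u

open CategoryTheory CategoryTheory.Limits AlgebraicGeometry
open scoped TensorProduct

namespace Groth.Agent.GeomIrr.Alg

open FieldExtConn

variable {k : Type u} [Field k]

/-- Irreducibility of the pullback and of the tensor product agree. -/
theorem irreducible_pullback_iff (R K : Type u) [CommRing R] [Algebra k R] [Field K] [Algebra k K] :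
    IrreducibleSpace ↥(pullback (Spec.map (CommRingCat.ofHom (algebraMap k R))) (ext k K)) ↔
      IrreducibleSpace (PrimeSpectrum (K ⊗[k] R)) :=
  (pullbackSymmetry _ _ ≪≫ pullbackSpecIso k K R).hom.homeomorph.irreducibleSpace_iff

theorem forall_irreducible_iff (R : Type u) [CommRing R] [Algebra k R] :
    (∀ (K : Type u) [Field K] [Algebra k K], IrreducibleSpace (PrimeSpectrum (K ⊗[k] R))) ↔
      GeometricallyIrreducible (Spec.map (CommRingCat.ofHom (algebraMap k R))) := by
  refine ⟨fun h => ⟨geometrically_iff_of_isClosedUnderIsomorphisms.mpr fun E _ y => ?_⟩, fun h K _ _ => ?_⟩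
  · obtain ⟨ψ, rfl⟩ := Spec.map_surjective y
    let := ψ.hom.toAlgebra
    exact (irreducible_pullback_iff R E).2 (h E)
  · exact (irreducible_pullback_iff R K).1
      (GeometricallyIrreducible.geometrically_irreducibleSpace _ _ _ (IsPullback.of_hasPullback _ _))

/-- A separably closed test field suffices. -/
theorem forall_irreducible_of_isSepClosed {R : Type u} [CommRing R] [Algebra k R] (S : Type u) [Field S]
    [IsSepClosed S] [Algebra k S] (h : IrreducibleSpace (PrimeSpectrum (S ⊗[k] R))) :
    ∀ (K : Type u) [Field K] [Algebra k K], IrreducibleSpace (PrimeSpectrum (K ⊗[k] R)) :=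
  (forall_irreducible_iff R).2
    (have := (irreducible_pullback_iff R S).2 h
     geometricallyIrreducible_of_isSepClosed _ S)

/-- Irreducibility passes to subrings. -/
theorem irreducible_of_injective {A B : Type*} [CommRing A] [CommRing B] (f : A →+* B)
    (hf : Function.Injective f) [h : IrreducibleSpace (PrimeSpectrum B)] :
    IrreducibleSpace (PrimeSpectrum A) := by
  rw [PrimeSpectrum.irreducibleSpace_iff_isPrime_nilradical] at h ⊢
  have : nilradical A = (nilradical B).comap f := by
    ext x
    simp [mem_nilradical, IsNilpotent.map_iff hf]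
  rw [this]
  exact Ideal.IsPrime.comap f

theorem map_left_injective {A B : Type u} [CommRing A] [CommRing B] [Algebra k A] [Algebra k B]
    (φ : A →ₐ[k] B) (hφ : Function.Injective φ) (C : Type u) [CommRing C] [Algebra k C] :
    Function.Injective (Algebra.TensorProduct.map φ (AlgHom.id k C)) :=
  Module.Flat.rTensor_preserves_injective_linearMap (M := C) φ.toLinearMap hφ

theorem map_right_injective {A B : Type u} [CommRing A] [CommRing B] [Algebra k A] [Algebra k B]
    (φ : A →ₐ[k] B) (hφ : Function.Injective φ) (C : Type u) [CommRing C] [Algebra k C] :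
    Function.Injective (Algebra.TensorProduct.map (AlgHom.id k C) φ) :=
  Module.Flat.lTensor_preserves_injective_linearMap (M := C) φ.toLinearMap hφ

theorem range_map_mono {K : Type u} [Field K] [Algebra k K] {A : Type u} [CommRing A] [Algebra k A]
    {L M : IntermediateField k K} (h : L ≤ M) :
    (Algebra.TensorProduct.map L.val (AlgHom.id k A)).range ≤
      (Algebra.TensorProduct.map M.val (AlgHom.id k A)).range := by
  have e : Algebra.TensorProduct.map L.val (AlgHom.id k A) = (Algebra.TensorProduct.map M.val (AlgHom.id k A)).comp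
      (Algebra.TensorProduct.map (IntermediateField.inclusion h) (AlgHom.id k A)) :=
    Algebra.TensorProduct.ext' fun a b => rfl
  rw [e]
  exact AlgHom.range_comp_le_range _ _

/-- Every tensor is defined over a finite subextension. -/
theorem exists_finite_level (K : Type u) [Field K] [Algebra k K] [Algebra.IsAlgebraic k K]
    (A : Type u) [CommRing A] [Algebra k A] (z : K ⊗[k] A) :
    ∃ L : IntermediateField k K, FiniteDimensional k L ∧
      z ∈ (Algebra.TensorProduct.map L.val (AlgHom.id k A)).range := by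
  induction z using TensorProduct.induction_on with
  | zero => exact ⟨⊥, inferInstance, zero_mem _⟩
  | tmul a b =>
    refine ⟨IntermediateField.adjoin k {a},
      IntermediateField.adjoin.finiteDimensional (Algebra.IsIntegral.isIntegral a),
      ⟨⟨a, IntermediateField.mem_adjoin_simple_self k a⟩ ⊗ₜ[k] b, rfl⟩⟩
  | add x y hx hy =>
    obtain ⟨L, hL, hxL⟩ := hx
    obtain ⟨M, hM, hyM⟩ := hy
    exact ⟨L ⊔ M, IntermediateField.finiteDimensional_sup L M,
      add_mem (range_map_mono le_sup_left hxL) (range_map_mono le_sup_right hyM)⟩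

/-- Two tensors are defined over a common finite subextension. -/
theorem exists_finite_level₂ (K : Type u) [Field K] [Algebra k K] [Algebra.IsAlgebraic k K]
    (A : Type u) [CommRing A] [Algebra k A] (z w : K ⊗[k] A) :
    ∃ L : IntermediateField k K, FiniteDimensional k L ∧
      z ∈ (Algebra.TensorProduct.map L.val (AlgHom.id k A)).range ∧
      w ∈ (Algebra.TensorProduct.map L.val (AlgHom.id k A)).range := by
  obtain ⟨L, hL, hz⟩ := exists_finite_level K A z
  obtain ⟨M, hM, hw⟩ := exists_finite_level K A w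
  exact ⟨L ⊔ M, IntermediateField.finiteDimensional_sup L M, range_map_mono le_sup_left hz,
    range_map_mono le_sup_right hw⟩

/-- Irreducibility at all finite levels gives irreducibility in the limit. -/
theorem irreducible_of_finite_levels (K : Type u) [Field K] [Algebra k K] [Algebra.IsAlgebraic k K]
    (A : Type u) [CommRing A] [Algebra k A]
    (h : ∀ L : IntermediateField k K, FiniteDimensional k L → IrreducibleSpace (PrimeSpectrum (↥L ⊗[k] A))) :
    IrreducibleSpace (PrimeSpectrum (K ⊗[k] A)) := by
  rw [PrimeSpectrum.irreducibleSpace_iff_isPrime_nilradical]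
  have hnt : Nontrivial (K ⊗[k] A) := by
    have := h ⊥ inferInstance
    obtain ⟨x⟩ := this.toNonempty
    have : Nontrivial (↥(⊥ : IntermediateField k K) ⊗[k] A) := by
      rcases subsingleton_or_nontrivial (↥(⊥ : IntermediateField k K) ⊗[k] A) with hs | hn
      · exact absurd (x.2.ne_top) (not_not.2 (Subsingleton.elim _ _))
      · exact hn
    exact (map_left_injective (⊥ : IntermediateField k K).val Subtype.val_injective A).nontrivial
  refine ⟨fun htop => not_isNilpotent_one (R := K ⊗[k] A) (mem_nilradical.1 (htop ▸ trivial)), fun {x y} hxy => ?_⟩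
  obtain ⟨L, hL, ⟨a, rfl⟩, b, rfl⟩ := exists_finite_level₂ K A x y
  have hinj := map_left_injective L.val Subtype.val_injective A
  have hp := PrimeSpectrum.irreducibleSpace_iff_isPrime_nilradical.1 (h L hL)
  simp only [mem_nilradical] at hxy ⊢
  rw [← map_mul] at hxy
  rcases hp.mem_or_mem (mem_nilradical.2 ((IsNilpotent.map_iff hinj).1 hxy)) with h' | h'
  · exact Or.inl ((mem_nilradical.1 h').map _)
  · exact Or.inr ((mem_nilradical.1 h').map _)

/-- The fibre of `R ⊗ S` over a prime of `R` is `κ ⊗ S`. -/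
noncomputable def fiberHomeo {R S : Type u} [CommRing R] [CommRing S] [Algebra k R] [Algebra k S]
    (p : PrimeSpectrum R) :
    PrimeSpectrum.comap (algebraMap R (R ⊗[k] S)) ⁻¹' {p} ≃ₜ
      PrimeSpectrum (p.asIdeal.ResidueField ⊗[k] S) :=
  (PrimeSpectrum.preimageHomeomorphFiber R (R ⊗[k] S) p).trans
    (PrimeSpectrum.homeomorphOfRingEquiv
      (Algebra.TensorProduct.cancelBaseChange k R p.asIdeal.ResidueField p.asIdeal.ResidueField S).toRingEquiv)

theorem isPreconnected_fibre {R S : Type u} [CommRing R] [CommRing S] [Algebra k R] [Algebra k S]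
    (hS : ∀ (K : Type u) [Field K] [Algebra k K], ConnectedSpace (PrimeSpectrum (K ⊗[k] S)))
    (p : PrimeSpectrum R) :
    _root_.IsPreconnected (PrimeSpectrum.comap (algebraMap R (R ⊗[k] S)) ⁻¹' {p}) := by
  rw [isPreconnected_iff_preconnectedSpace]
  have := hS p.asIdeal.ResidueField
  exact ((fiberHomeo p).symm.surjective.connectedSpace (fiberHomeo p).symm.continuous).toPreconnectedSpace

theorem surjective_comap {R S : Type u} [CommRing R] [CommRing S] [Algebra k R] [Algebra k S]
    [Nontrivial S] : Function.Surjective (PrimeSpectrum.comap (algebraMap R (R ⊗[k] S))) := by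
  intro p
  have : Nontrivial (p.asIdeal.ResidueField ⊗[k] S) :=
    (Algebra.TensorProduct.includeRight_injective (R := k) (A := p.asIdeal.ResidueField) (B := S)
      (RingHom.injective _)).nontrivial
  obtain ⟨q⟩ := (inferInstance : Nonempty (PrimeSpectrum (p.asIdeal.ResidueField ⊗[k] S)))
  exact ⟨_, ((fiberHomeo p).symm q).2⟩

theorem nontrivial_of_connected {S : Type u} [CommRing S] [Algebra k S] (K : Type u) [Field K] [Algebra k K]
    [h : ConnectedSpace (PrimeSpectrum (K ⊗[k] S))] : Nontrivial S := by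
  rcases subsingleton_or_nontrivial S with hs | hn
  · exfalso
    obtain ⟨x⟩ := h.toNonempty
    apply x.2.ne_top
    rw [Ideal.eq_top_iff_one]
    rw [show (1 : K ⊗[k] S) = 0 by
      rw [Algebra.TensorProduct.one_def, Subsingleton.elim (1 : S) 0, TensorProduct.tmul_zero]]
    exact zero_mem _
  · exact hn

/-- Idempotents of `R ⊗ S` for geometrically connected `S`. -/
theorem existsUnique_idempotent {R S : Type u} [CommRing R] [CommRing S] [Algebra k R] [Algebra k S]
    (hS : ∀ (K : Type u) [Field K] [Algebra k K], ConnectedSpace (PrimeSpectrum (K ⊗[k] S)))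
    (x : R ⊗[k] S) (hx : IsIdempotentElem x) :
    ∃! e : R, IsIdempotentElem e ∧ algebraMap R (R ⊗[k] S) e = x := by
  have := hS k
  have : Nontrivial S := nontrivial_of_connected (k := k) k
  have hinj : Function.Injective (algebraMap R (R ⊗[k] S)) :=
    Algebra.TensorProduct.includeLeft_injective (R := k) (S := k) (RingHom.injective _)
  let π := PrimeSpectrum.comap (algebraMap R (R ⊗[k] S))
  have ho : IsOpenMap π := PrimeSpectrum.isOpenMap_comap_algebraMap_tensorProduct_of_field
  let U : Set (PrimeSpectrum (R ⊗[k] S)) := PrimeSpectrum.basicOpen x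
  have hU : IsClopen U := PrimeSpectrum.isClopen_iff.2 ⟨x, hx, rfl⟩
  have hsat : ∀ y, π y ∈ π '' U → y ∈ U := by
    rintro y ⟨v, hv, hvy⟩
    exact (isPreconnected_fibre hS (π y)).subset_isClopen hU ⟨v, hvy, hv⟩ rfl
  have hW : IsClopen (π '' U) := by
    refine ⟨⟨?_⟩, ho U hU.2⟩
    have : (π '' U)ᶜ = π '' Uᶜ := by
      ext q
      constructor
      · intro hq
        obtain ⟨y, rfl⟩ := surjective_comap (k := k) (S := S) q
        exact ⟨y, fun hy => hq ⟨y, hy, rfl⟩, rfl⟩
      · rintro ⟨y, hy, rfl⟩ hy'
        exact hy (hsat y hy')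
    rw [this]
    exact ho _ hU.1.isOpen_compl
  obtain ⟨e, he, hWe⟩ := PrimeSpectrum.isClopen_iff.1 hW
  refine ⟨e, ⟨he, ?_⟩, fun e' h' => hinj (h'.2.trans ?_)⟩
  · refine PrimeSpectrum.basicOpen_injOn_isIdempotentElem (he.map _) hx (SetLike.ext' ?_)
    rw [← PrimeSpectrum.comap_basicOpen]
    show π ⁻¹' (PrimeSpectrum.basicOpen e : Set _) = U
    rw [← hWe]
    exact Set.Subset.antisymm hsat (Set.subset_preimage_image π U)
  · refine (PrimeSpectrum.basicOpen_injOn_isIdempotentElem (he.map _) hx (SetLike.ext' ?_)).symm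
    rw [← PrimeSpectrum.comap_basicOpen]
    show π ⁻¹' (PrimeSpectrum.basicOpen e : Set _) = U
    rw [← hWe]
    exact Set.Subset.antisymm hsat (Set.subset_preimage_image π U)

/-- Minimal primes of `R ⊗ S` for geometrically irreducible `S`. -/
theorem bijOn_minimalPrimes {R S : Type u} [CommRing R] [CommRing S] [Algebra k R] [Algebra k S]
    (hS : ∀ (K : Type u) [Field K] [Algebra k K], IrreducibleSpace (PrimeSpectrum (K ⊗[k] S))) :
    Set.BijOn (Ideal.comap (algebraMap R (R ⊗[k] S))) (minimalPrimes (R ⊗[k] S)) (minimalPrimes R) := by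
  let π := PrimeSpectrum.comap (algebraMap R (R ⊗[k] S))
  have hg : ∀ p : PrimeSpectrum R, ∃ g, π g = p ∧ ∀ y, π y = p → g.asIdeal ≤ y.asIdeal := by
    intro p
    have := hS p.asIdeal.ResidueField
    let e := fiberHomeo (k := k) (S := S) p
    refine ⟨(e.symm (genericPoint _)).1, (e.symm (genericPoint _)).2, fun y hy => ?_⟩
    have h1 : genericPoint (PrimeSpectrum (p.asIdeal.ResidueField ⊗[k] S)) ⤳ e ⟨y, hy⟩ :=
      genericPoint_specializes _
    have h2 := h1.map (continuous_subtype_val.comp e.symm.continuous)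
    simp only [Function.comp_apply, Homeomorph.symm_apply_apply] at h2
    exact (PrimeSpectrum.le_iff_specializes _ y).2 h2
  simp only [minimalPrimes_eq_minimals]
  refine ⟨fun P hP => ?_, fun P hP Q hQ hPQ => ?_, fun p hp => ?_⟩
  · have := hP.1
    refine ⟨Ideal.IsPrime.comap _, fun q hq hle => ?_⟩
    have := hq
    have : P.LiesOver (P.comap (algebraMap R (R ⊗[k] S))) := ⟨rfl⟩
    obtain ⟨Q, hQle, hQprime, hQ⟩ := Ideal.exists_ideal_le_liesOver_of_le P hle
    rw [hQ.1]
    exact Ideal.comap_mono (hP.2 hQprime hQle)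
  · obtain ⟨g, hg1, hg2⟩ := hg ⟨P.comap (algebraMap R (R ⊗[k] S)), Ideal.IsPrime.comap _ (hK := hP.1)⟩
    have e1 : g.asIdeal ≤ P := hg2 ⟨P, hP.1⟩ rfl
    have e2 : g.asIdeal ≤ Q := hg2 ⟨Q, hQ.1⟩ (PrimeSpectrum.ext hPQ.symm)
    exact (le_antisymm (hP.2 g.2 e1) e1).trans (le_antisymm e2 (hQ.2 g.2 e2))
  · obtain ⟨g, hg1, hg2⟩ := hg ⟨p, hp.1⟩
    refine ⟨g.asIdeal, ⟨g.2, fun Q hQ hle => hg2 ⟨Q, hQ⟩ (PrimeSpectrum.ext ?_)⟩, congrArg (·.asIdeal) hg1⟩
    have h : Q.comap (algebraMap R (R ⊗[k] S)) ≤ p :=
      (Ideal.comap_mono hle).trans (congrArg (·.asIdeal) hg1).le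
    exact le_antisymm h (hp.2 (Ideal.IsPrime.comap _ (hK := hQ)) h)

end Groth.Agent.GeomIrr.Alg
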