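import Groth.Agent.GeomIrr.Alg

/-!
Geometric irreducibility of `K(t)` over `k(t)`.
-/

universe u

open Polynomial
open scoped TensorProduct

namespace Groth.Agent.GeomIrr.Alg

variable {k : Type u} [Field k]

/-- Localisations of rings with irreducible spectrum. -/
theorem irreducible_localization {A : Type*} [CommRing A] (M : Submonoid A) [Nontrivial (Localization M)]
    [h : IrreducibleSpace (PrimeSpectrum A)] : IrreducibleSpace (PrimeSpectrum (Localization M)) := by
  rw [PrimeSpectrum.irreducibleSpace_iff_isPrime_nilradical] at h ⊢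
  let q := algebraMap A (Localization M)
  have key : ∀ {c : A}, IsNilpotent (q c) → IsNilpotent c := by
    intro c hc
    obtain ⟨n, hn⟩ := hc
    rw [← map_pow, IsLocalization.map_eq_zero_iff M] at hn
    obtain ⟨⟨m, hm⟩, hm0⟩ := hn
    have h0 : m * c ^ n ∈ nilradical A := by rw [show m * c ^ n = 0 from hm0]; exact zero_mem _
    rcases h.mem_or_mem h0 with h' | h'
    · exact absurd ((IsLocalization.map_units (Localization M) ⟨m, hm⟩)) fun hu =>
        (((mem_nilradical.1 h').map q)).not_isUnit hu
    · exact mem_nilradical.1 (h.mem_of_pow_mem n h')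
  refine ⟨fun htop => not_isNilpotent_one (R := Localization M) (mem_nilradical.1 (htop ▸ trivial)), fun {x y} hxy => ?_⟩
  obtain ⟨a, m, rfl⟩ := IsLocalization.exists_mk'_eq M x
  obtain ⟨b, n, rfl⟩ := IsLocalization.exists_mk'_eq M y
  have hab : IsNilpotent (q (a * b)) := by
    rw [map_mul, ← IsLocalization.mk'_spec (Localization M) a m, ← IsLocalization.mk'_spec (Localization M) b n]
    rw [show IsLocalization.mk' (Localization M) a m * q m * (IsLocalization.mk' (Localization M) b n * q n) =
      (IsLocalization.mk' (Localization M) a m * IsLocalization.mk' (Localization M) b n) * (q m * q n) by ring]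
    exact (Commute.all _ _).isNilpotent_mul_right (mem_nilradical.1 hxy)
  have step : ∀ (c : A) (l : M), IsNilpotent c → IsLocalization.mk' (Localization M) c l ∈ nilradical (Localization M) := by
    intro c l hc
    rw [mem_nilradical, IsLocalization.mk'_eq_mul_mk'_one]
    exact (Commute.all _ _).isNilpotent_mul_right (hc.map q)
  rcases h.mem_or_mem (mem_nilradical.2 (key hab)) with h' | h'
  · exact Or.inl (step a m (mem_nilradical.1 h'))
  · exact Or.inr (step b n (mem_nilradical.1 h'))

variable {K : Type u} [Field K] [Algebra k K]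
  (kt Kt : Type u) [Field kt] [Field Kt] [Algebra (Polynomial k) kt] [IsFractionRing (Polynomial k) kt]
  [Algebra (Polynomial K) Kt] [IsFractionRing (Polynomial K) Kt] [Algebra kt Kt]

/-- Geometric irreducibility ascends to `K(t)/k(t)`. -/
theorem forall_irreducible_ratFunc
    (hcompat : ∀ p : Polynomial k, algebraMap kt Kt (algebraMap (Polynomial k) kt p) =
      algebraMap (Polynomial K) Kt (Polynomial.map (algebraMap k K) p))
    (h : ∀ (k' : Type u) [Field k'] [Algebra k k'], IrreducibleSpace (PrimeSpectrum (k' ⊗[k] K)))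
    (L : Type u) [Field L] [Algebra kt L] : IrreducibleSpace (PrimeSpectrum (L ⊗[kt] Kt)) := by
  letI : Algebra k L :=
    ((algebraMap kt L).comp ((algebraMap k[X] kt).comp (C : k →+* k[X]))).toAlgebra
  have hR := h L
  let ψ : K[X] →+* L ⊗[k] K := eval₂RingHom (Algebra.TensorProduct.includeRight (R := k) (A := L) (B := K)).toRingHom
    (algebraMap kt L (algebraMap k[X] kt X) ⊗ₜ[k] 1)
  -- the natural map to the big tensor product
  let φL : L →+* L ⊗[kt] Kt := (Algebra.TensorProduct.includeLeftRingHom)
  let φK : K →+* L ⊗[kt] Kt :=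
    (Algebra.TensorProduct.includeRight (R := kt) (A := L) (B := Kt)).toRingHom.comp ((algebraMap K[X] Kt).comp C)
  have hmid : ∀ p : k[X], φL (algebraMap kt L (algebraMap k[X] kt p)) =
      (Algebra.TensorProduct.includeRight (R := kt) (A := L) (B := Kt)) (algebraMap K[X] Kt (p.map (algebraMap k K))) := by
    intro p
    rw [← hcompat, AlgHom.commutes]
    rfl
  have hφK : ∀ c, φK (algebraMap k K c) = algebraMap k (L ⊗[kt] Kt) c := by
    intro c
    show (Algebra.TensorProduct.includeRight (R := kt) (A := L) (B := Kt)) (algebraMap K[X] Kt (C (algebraMap k K c))) =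
      φL (algebraMap kt L (algebraMap k[X] kt (C c)))
    rw [hmid, Polynomial.map_C]
  let φL' : L →ₐ[k] L ⊗[kt] Kt := { φL with commutes' := fun c => rfl }
  let φK' : K →ₐ[k] L ⊗[kt] Kt := { φK with commutes' := hφK }
  let φ : L ⊗[k] K →ₐ[k] L ⊗[kt] Kt := Algebra.TensorProduct.lift (R := k) (S := k) φL' φK'
    (fun x y => Commute.all _ _)
  have hφψ : ∀ p : K[X], φ (ψ p) = (Algebra.TensorProduct.includeRight (R := kt) (A := L) (B := Kt)) (algebraMap K[X] Kt p) := by
    refine fun p => RingHom.congr_fun (f := φ.toRingHom.comp ψ)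
      (g := (Algebra.TensorProduct.includeRight (R := kt) (A := L) (B := Kt)).toRingHom.comp (algebraMap K[X] Kt)) ?_ p
    refine Polynomial.ringHom_ext (fun a => ?_) ?_
    · show φ (ψ (C a)) = _
      simp [ψ, φ, φK', φL', φK, φL]
    · show φ (ψ X) = _
      have := hmid X
      rw [Polynomial.map_X] at this
      simp only [ψ, coe_eval₂RingHom, eval₂_X, φ, Algebra.TensorProduct.lift_tmul, map_one, mul_one]
      exact this
  let M : Submonoid (L ⊗[k] K) := (nonZeroDivisors K[X]).map ψ
  have hunit : ∀ m : M, IsUnit (φ.toRingHom (m : L ⊗[k] K)) := by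
    rintro ⟨_, p, hp, rfl⟩
    show IsUnit (φ (ψ p))
    rw [hφψ]
    exact (IsLocalization.map_units Kt ⟨p, hp⟩).map _
  let f : Localization M →+* L ⊗[kt] Kt := IsLocalization.lift hunit
  have : Nontrivial (L ⊗[kt] Kt) :=
    (Algebra.TensorProduct.includeRight_injective (R := kt) (A := L) (B := Kt) (RingHom.injective _)).nontrivial
  have : Nontrivial (Localization M) := f.domain_nontrivial
  let q := algebraMap (L ⊗[k] K) (Localization M)
  let gL : L →+* Localization M := q.comp Algebra.TensorProduct.includeLeftRingHom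
  have hu : ∀ p : nonZeroDivisors K[X], IsUnit (q.comp ψ (p : K[X])) := fun p =>
    IsLocalization.map_units (Localization M) (⟨ψ (p : K[X]), Submonoid.mem_map_of_mem ψ p.2⟩ : M)
  let gK : Kt →+* Localization M := IsLocalization.lift hu
  have hgK : ∀ p : K[X], gK (algebraMap K[X] Kt p) = q (ψ p) := fun p => IsLocalization.lift_eq hu p
  have hcomm : gK.comp (algebraMap kt Kt) = gL.comp (algebraMap kt L) := by
    refine IsLocalization.ringHom_ext (nonZeroDivisors k[X]) ?_
    refine Polynomial.ringHom_ext (fun a => ?_) ?_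
    · show gK (algebraMap kt Kt (algebraMap k[X] kt (C a))) = gL (algebraMap kt L (algebraMap k[X] kt (C a)))
      rw [hcompat, hgK, Polynomial.map_C]
      show q (ψ (C (algebraMap k K a))) = q (algebraMap k L a ⊗ₜ[k] 1)
      congr 1
      simp only [ψ, coe_eval₂RingHom, eval₂_C]
      exact (Algebra.TensorProduct.includeRight (R := k) (A := L) (B := K)).commutes a
    · show gK (algebraMap kt Kt (algebraMap k[X] kt X)) = gL (algebraMap kt L (algebraMap k[X] kt X))
      rw [hcompat, hgK, Polynomial.map_X]
      show q (ψ X) = q _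
      simp only [ψ, coe_eval₂RingHom, eval₂_X]
      rfl
  let g : L ⊗[kt] Kt →ₐ[kt] Localization M := Algebra.TensorProduct.lift
    { gL with commutes' := fun c => rfl }
    { gK with commutes' := fun c => RingHom.congr_fun hcomm c } (fun x y => Commute.all _ _)
  have hgf : g.toRingHom.comp f = RingHom.id _ := by
    refine IsLocalization.ringHom_ext M ?_
    refine RingHom.ext fun z => ?_
    show g (f (q z)) = q z
    rw [IsLocalization.lift_eq hunit]
    show g (φ z) = q z
    induction z using TensorProduct.induction_on with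
    | zero => simp
    | add x y hx hy => simp only [map_add, hx, hy]
    | tmul l a =>
      simp only [φ, Algebra.TensorProduct.lift_tmul, map_mul]
      show g (l ⊗ₜ 1) * g (1 ⊗ₜ algebraMap K[X] Kt (C a)) = _
      simp only [g, Algebra.TensorProduct.lift_tmul, map_one, mul_one, one_mul]
      show q (l ⊗ₜ[k] 1) * gK (algebraMap K[X] Kt (C a)) = _
      rw [hgK, ← map_mul]
      congr 1
      simp [ψ]
  have hsurj : Function.Surjective f := by
    intro z
    induction z using TensorProduct.induction_on with
    | zero => exact ⟨0, map_zero _⟩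
    | add x y hx hy =>
      obtain ⟨a, rfl⟩ := hx
      obtain ⟨b, rfl⟩ := hy
      exact ⟨a + b, map_add _ _ _⟩
    | tmul l y =>
      obtain ⟨a, s, rfl⟩ := IsLocalization.exists_mk'_eq (nonZeroDivisors K[X]) y
      refine ⟨q (l ⊗ₜ[k] 1) * IsLocalization.mk' _ (ψ a) (⟨ψ s, s, s.2, rfl⟩ : M), ?_⟩
      refine (hunit ⟨ψ s, s, s.2, rfl⟩).mul_left_injective ?_
      show f _ * φ (ψ s) = _ * φ (ψ s)
      rw [map_mul, mul_assoc]
      have hs : f (IsLocalization.mk' _ (ψ a) (⟨ψ s, s, s.2, rfl⟩ : M)) * φ (ψ s) = φ (ψ a) := by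
        rw [show φ (ψ s) = f (q (ψ s)) from (IsLocalization.lift_eq hunit (ψ s)).symm, ← map_mul,
          IsLocalization.mk'_spec]
        exact IsLocalization.lift_eq hunit (ψ a)
      rw [hs, show f (q (l ⊗ₜ[k] 1)) = φ (l ⊗ₜ[k] 1) from IsLocalization.lift_eq hunit _, hφψ, hφψ]
      simp only [φ, Algebra.TensorProduct.lift_tmul, map_one, mul_one]
      show (l ⊗ₜ[kt] (1 : Kt)) * (1 ⊗ₜ[kt] _) = _ * (1 ⊗ₜ[kt] _)
      rw [Algebra.TensorProduct.tmul_mul_tmul, Algebra.TensorProduct.tmul_mul_tmul, mul_one, one_mul,
        IsLocalization.mk'_spec]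
  have hinj : Function.Injective g := by
    intro x y hxy
    obtain ⟨a, rfl⟩ := hsurj x
    obtain ⟨b, rfl⟩ := hsurj y
    have ha := RingHom.congr_fun hgf a
    have hb := RingHom.congr_fun hgf b
    exact congrArg f (ha.symm.trans (hxy.trans hb))
  have := irreducible_localization M
  exact irreducible_of_injective g.toRingHom hinj

/-- Geometric irreducibility descends from `K(t)/k(t)`. -/
theorem separable_mem_of_ratFunc
    (hcompat : ∀ p : Polynomial k, algebraMap kt Kt (algebraMap (Polynomial k) kt p) =
      algebraMap (Polynomial K) Kt (Polynomial.map (algebraMap k K) p))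
    (h : ∀ β : Kt, IsSeparable kt β → β ∈ Set.range (algebraMap kt Kt))
    (α : K) (hα : IsSeparable k α) : α ∈ Set.range (algebraMap k K) := by
  let i : k →+* kt := (algebraMap k[X] kt).comp C
  let j : K →+* Kt := (algebraMap K[X] Kt).comp C
  have hij : ∀ c, algebraMap kt Kt (i c) = j (algebraMap k K c) := fun c => by
    show algebraMap kt Kt (algebraMap k[X] kt (C c)) = _
    rw [hcompat, Polynomial.map_C]; rfl
  have hsep : IsSeparable kt (j α) := by
    have h0 : aeval (j α) ((minpoly k α).map i) = 0 := by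
      rw [aeval_def, eval₂_map, show (algebraMap kt Kt).comp i = j.comp (algebraMap k K) from RingHom.ext hij,
        ← hom_eval₂, ← aeval_def, minpoly.aeval, map_zero]
    exact (Polynomial.Separable.map (f := i) hα).of_dvd (minpoly.dvd kt _ h0)
  obtain ⟨c, hc⟩ := h _ hsep
  obtain ⟨f, g, hg, rfl⟩ := IsFractionRing.div_surjective (A := k[X]) c
  have hg0 : g ≠ 0 := nonZeroDivisors.ne_zero hg
  have hgK : algebraMap K[X] Kt (g.map (algebraMap k K)) ≠ 0 := by
    rw [Ne, IsFractionRing.to_map_eq_zero_iff]
    exact (Polynomial.map_ne_zero_iff (RingHom.injective _)).2 hg0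
  have he : f.map (algebraMap k K) = C α * g.map (algebraMap k K) := by
    apply IsFractionRing.injective K[X] Kt
    rw [map_mul, ← div_eq_iff hgK, ← hcompat, ← hcompat, ← map_div₀]
    exact hc
  have hcoef := congrArg (fun p : K[X] => p.coeff g.natDegree) he
  simp only [coeff_C_mul, coeff_map] at hcoef
  refine ⟨f.coeff g.natDegree / g.leadingCoeff, ?_⟩
  rw [map_div₀, hcoef]
  exact mul_div_cancel_right₀ α ((_root_.map_ne_zero _).2 (leadingCoeff_ne_zero.2 hg0))

end Groth.Agent.GeomIrr.Alg
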