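import Groth.Agent.GeomIrr.Orbit

/-!
Galois invariant components; geometric irreducibility of field extensions.
-/

universe u

open CategoryTheory CategoryTheory.Limits AlgebraicGeometry
open scoped TensorProduct

namespace Groth.Agent.GeomIrr

open FieldExtConn

variable {k : Type u} [Field k]

theorem irreducible_tensor_iff_separable_mem (K : Type u) [Field K] [Algebra k K] :
    (∀ (k' : Type u) [Field k'] [Algebra k k'], IrreducibleSpace (PrimeSpectrum (k' ⊗[k] K))) ↔
      ∀ α : K, IsSeparable k α → α ∈ Set.range (algebraMap k K) := by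
  have hcomm : ∀ (k' : Type u) [Field k'] [Algebra k k'],
      IrreducibleSpace (PrimeSpectrum (k' ⊗[k] K)) ↔ IrreducibleSpace (PrimeSpectrum (K ⊗[k] k')) := fun k' _ _ =>
    (PrimeSpectrum.homeomorphOfRingEquiv (Algebra.TensorProduct.comm k k' K).toRingEquiv).irreducibleSpace_iff
  refine ⟨fun h α hα => mem_range_of_irreducible_tensor hα ((hcomm _).1 (h _)), fun h k' _ _ => ?_⟩
  have hS : separableClosure k K = ⊥ := by
    refine le_antisymm (fun x hx => ?_) bot_le
    exact IntermediateField.mem_bot.2 (h x (mem_separableClosure_iff.1 hx))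
  have := isDomain_tensor_sepClosure (k := k) K hS
  have : IrreducibleSpace ↥(Spec (CommRingCat.of (K ⊗[k] SeparableClosure k))) :=
    (inferInstance : IrreducibleSpace (PrimeSpectrum (K ⊗[k] SeparableClosure k)))
  have : IrreducibleSpace ↥(pullback (ext k K) (ext k (SeparableClosure k))) :=
    (pullbackSpecIso k K (SeparableClosure k)).hom.homeomorph.irreducibleSpace_iff.2 this
  have := geometricallyIrreducible_of_isSepClosed (ext k K) (SeparableClosure k)
  have h1 : IrreducibleSpace ↥(pullback (ext k K) (ext k k')) :=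
    GeometricallyIrreducible.geometrically_irreducibleSpace (f := ext k K) _ _ _ (IsPullback.of_hasPullback _ _)
  exact (hcomm k').2 ((pullbackSpecIso k K k').hom.homeomorph.irreducibleSpace_iff.1 h1)

variable {X : Scheme.{u}} (f : X ⟶ Spec (CommRingCat.of k))

local notation "S" => SeparableClosure k

theorem image_eq_image_iff {Z' Z'' : Set ↥(pullback f (ext k S))} (hZ' : Z' ∈ irreducibleComponents ↥(pullback f (ext k S)))
    (hZ'' : Z'' ∈ irreducibleComponents ↥(pullback f (ext k S))) :
    pullback.fst f (ext k S) '' Z' = pullback.fst f (ext k S) '' Z'' ↔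
      ∃ σ : S ≃ₐ[k] S, baseMap f (σ : S →ₐ[k] S) '' Z' = Z'' := by
  refine ⟨fun h => ?_, ?_⟩
  · let g' := genericPoints.ofComponent (⟨Z', hZ'⟩ : irreducibleComponents ↥(pullback f (ext k S)))
    let g'' := genericPoints.ofComponent (⟨Z'', hZ''⟩ : irreducibleComponents ↥(pullback f (ext k S)))
    have h' : closure {g'.1} = Z' := genericPoints.isGenericPoint_ofComponent _
    have h'' : closure {g''.1} = Z'' := genericPoints.isGenericPoint_ofComponent _
    rw [← h', ← h'', image_closure_genericPoint f S g'.2, image_closure_genericPoint f S g''.2] at h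
    obtain ⟨σ, hσ⟩ := exists_galois_of_fst_eq f g'.1 g''.1
      ((isGenericPoint_closure.eq (h ▸ isGenericPoint_closure)))
    exact ⟨σ, by rw [← h', image_closure_baseMap_equiv, hσ, h'']⟩
  · rintro ⟨σ, rfl⟩
    rw [Set.image_image]
    exact Set.image_congr fun z _ => (fst_baseMap f _ z).symm

theorem invariant_iff {Z : Set ↥(pullback f (ext k S))} (hZ : Z ∈ irreducibleComponents ↥(pullback f (ext k S))) :
    (∀ σ : S ≃ₐ[k] S, baseMap f (σ : S →ₐ[k] S) '' Z = Z) ↔
      ∃ T ∈ irreducibleComponents ↥X, pullback.fst f (ext k S) ⁻¹' T = Z ∧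
        ∀ (K : Type u) [Field K] [Algebra k K], IsIrreducible (pullback.fst f (ext k K) ⁻¹' T) := by
  refine ⟨fun h => ?_, ?_⟩
  · refine ⟨_, image_component_mem f S hZ, ?_, fun K _ _ => ?_⟩
    · refine subset_antisymm (fun z hz => ?_) (Set.subset_preimage_image _ _)
      let g := genericPoints.ofComponent (⟨Z, hZ⟩ : irreducibleComponents ↥(pullback f (ext k S)))
      have hg : closure {g.1} = Z := genericPoints.isGenericPoint_ofComponent _
      rw [← hg, Set.mem_preimage, image_closure_genericPoint f S g.2] at hz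
      have : Flat (ext k S) := GeomRedAt.flat_SpecMap_field _
      obtain ⟨w, hw, hwη⟩ := Flat.generalizingMap (pullback.fst f (ext k S))
        (specializes_iff_mem_closure.2 hz)
      let g' := genericPoints.ofComponent (⟨irreducibleComponent w, irreducibleComponent_mem_irreducibleComponents w⟩ :
        irreducibleComponents ↥(pullback f (ext k S)))
      have hg'w : g'.1 ⤳ w := (genericPoints.isGenericPoint_ofComponent _).specializes mem_irreducibleComponent
      have h1 : pullback.fst f (ext k S) g'.1 = pullback.fst f (ext k S) g.1 := by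
        have h2 : pullback.fst f (ext k S) g'.1 ⤳ pullback.fst f (ext k S) g.1 :=
          hwη ▸ hg'w.map (pullback.fst f (ext k S)).continuous
        exact (h2.antisymm ((mem_genericPoints_iff.1 (fst_mem_genericPoints f g.2)) _ h2)).eq
      obtain ⟨σ, hσ⟩ := exists_galois_of_fst_eq f g.1 g'.1 h1.symm
      rw [← h σ, ← hg, image_closure_baseMap_equiv, hσ]
      exact (hg'w.trans hw).mem_closure
    · obtain ⟨M, _, _, a, b, hab, _⟩ := exists_over f (Algebra.ofId k S) (Algebra.ofId k K)
      let T := pullback.fst f (ext k S) '' Z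
      have hpre : pullback.fst f (ext k S) ⁻¹' T = Z := by
        refine subset_antisymm (fun z hz => ?_) (Set.subset_preimage_image _ _)
        obtain ⟨z', hz', heq⟩ := hz
        obtain ⟨σ, hσ⟩ := exists_galois_of_fst_eq f z' z heq
        rw [← h σ]
        exact ⟨z', hz', hσ⟩
      have h1 : IsIrreducible (baseMap f a ⁻¹' (pullback.fst f (ext k S) ⁻¹' T)) := by
        rw [hpre]
        exact (baseMap f a).isIrreducible_preimage (baseMap f a).isOpenMap hZ.1
      have h2 : baseMap f a ⁻¹' (pullback.fst f (ext k S) ⁻¹' T) = baseMap f b ⁻¹' (pullback.fst f (ext k K) ⁻¹' T) :=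
        Set.ext fun w => by simp only [Set.mem_preimage, fst_baseMap]
      have h3 := (h2 ▸ h1).image _ (baseMap f b).continuous.continuousOn
      rwa [Set.image_preimage_eq _ (baseMap f b).surjective] at h3
  · rintro ⟨T, -, rfl, -⟩ σ
    refine Set.ext fun z => ⟨?_, fun hz => ?_⟩
    · rintro ⟨w, hw, rfl⟩
      rwa [Set.mem_preimage, fst_baseMap]
    · obtain ⟨w, rfl⟩ := (baseMap f (σ : S →ₐ[k] S)).surjective z
      exact ⟨w, by rwa [Set.mem_preimage, fst_baseMap] at hz, rfl⟩

end Groth.Agent.GeomIrr
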