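import Groth.Agent.GeomIrr.Components

/-!
Geometric irreducibility read off the generic point.
-/

universe u

open CategoryTheory CategoryTheory.Limits AlgebraicGeometry
open scoped TensorProduct

namespace Groth.Agent.GeomIrr

open FieldExtConn

variable {k : Type u} [Field k] {X : Scheme.{u}}

theorem geometricallyIrreducible_iff_generic (f : X ⟶ Spec (CommRingCat.of k)) [IrreducibleSpace X] {η : X}
    (hη : IsGenericPoint η Set.univ) [Algebra k (X.residueField η)]
    (halg : X.fromSpecResidueField η ≫ f = Spec.map (CommRingCat.ofHom (algebraMap k (X.residueField η)))) :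
    GeometricallyIrreducible f ↔
      ∀ a : X.residueField η, IsSeparable k a → a ∈ Set.range (algebraMap k (X.residueField η)) := by
  let K : Type u := X.residueField η
  have hm : ∀ (E : Type u) [Field E] [Algebra k E],
      ∃ m : pullback (ext k K) (ext k E) ⟶ pullback f (ext k E),
        Set.range m = pullback.fst f (ext k E) ⁻¹' {η} ∧ IsPreimmersion m := fun E _ _ => by
    let i : Spec (CommRingCat.of K) ⟶ X := X.fromSpecResidueField η
    have hi : i ≫ f = ext k K := halg
    let m : pullback (ext k K) (ext k E) ⟶ pullback f (ext k E) :=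
      pullback.lift (pullback.fst _ _ ≫ i) (pullback.snd _ _) (by rw [Category.assoc, hi]; exact pullback.condition)
    have hsq : IsPullback (pullback.fst (ext k K) (ext k E)) m i (pullback.fst f (ext k E)) := by
      refine IsPullback.of_bot ?_ (pullback.lift_fst _ _ _).symm (IsPullback.of_hasPullback f (ext k E))
      rw [pullback.lift_snd, hi]
      exact IsPullback.of_hasPullback (ext k K) (ext k E)
    refine ⟨m, ?_, MorphismProperty.of_isPullback (P := @IsPreimmersion) hsq
      (inferInstanceAs (IsPreimmersion (X.fromSpecResidueField η)))⟩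
    have hr : Set.range i = {η} := X.range_fromSpecResidueField η
    refine Set.ext fun z => ⟨?_, fun hz => ?_⟩
    · rintro ⟨w, rfl⟩
      rw [Set.mem_preimage, ← hr, ← Scheme.Hom.comp_apply, ← hsq.w, Scheme.Hom.comp_apply]
      exact ⟨_, rfl⟩
    · obtain ⟨a, ha⟩ : pullback.fst f (ext k E) z ∈ Set.range i := hr ▸ hz
      obtain ⟨w, -, hw⟩ := Scheme.exists_preimage_of_isPullback hsq a z ha
      exact ⟨w, hw⟩
  refine ⟨fun h a ha => ?_, fun hall => ?_⟩
  · let L : IntermediateField k K := IntermediateField.adjoin k {a}
    have : FiniteDimensional k L := IntermediateField.adjoin.finiteDimensional ha.isIntegral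
    have : Algebra.IsSeparable k L := (IntermediateField.isSeparable_adjoin_simple_iff_isSeparable _ _).2 ha
    have hirr : IrreducibleSpace (pullback f (ext k L) : Scheme.{u}) :=
      GeometricallyIrreducible.geometrically_irreducibleSpace (f := f) _ _ _ (IsPullback.of_hasPullback _ _)
    obtain ⟨m, hR, hpre⟩ := hm L
    have := surjective_ext (k := k) L
    let ξ := genericPoint ↥(pullback f (ext k L) : Scheme.{u})
    have hξ : pullback.fst f (ext k L) ξ = η := by
      have h1 := ((genericPoint_spec ↥(pullback f (ext k L) : Scheme.{u})).image (pullback.fst f (ext k L)).continuous)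
      rw [Set.image_univ, (pullback.fst f (ext k L)).surjective.range_eq, closure_univ] at h1
      exact h1.eq hη
    obtain ⟨w, hw⟩ : ξ ∈ Set.range m := by rw [hR]; exact hξ
    have hF : IrreducibleSpace ↥(Spec (CommRingCat.of (K ⊗[k] L))) := by
      refine (pullbackSpecIso k K L).hom.homeomorph.irreducibleSpace_iff.1 ?_
      have hgen : IsGenericPoint w (Set.univ) := Set.eq_univ_of_forall fun v =>
        (m.isEmbedding.isInducing.specializes_iff.1 (hw ▸ genericPoint_specializes (m v))).mem_closure
      exact @IrreducibleSpace.mk _ _ ⟨hgen.isIrreducible.2⟩ ⟨w⟩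
    have : Algebra.FormallyUnramified k L := Algebra.FormallyUnramified.of_isSeparable k L
    have : _root_.IsReduced (K ⊗[k] L) := Algebra.FormallyUnramified.isReduced_of_field K (K ⊗[k] L)
    have hint : AlgebraicGeometry.IsIntegral (Spec (CommRingCat.of (K ⊗[k] L))) := by
      rw [isIntegral_iff_irreducibleSpace_and_isReduced]
      exact ⟨hF, (affine_isReduced_iff _).2 ‹_›⟩
    have : IsDomain (K ⊗[k] L) := (affine_isIntegral_iff _).1 hint
    let μ : K ⊗[k] L →ₐ[K] K := Algebra.TensorProduct.lift (AlgHom.id K K) L.val fun _ _ => Commute.all _ _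
    have hfield : IsField (K ⊗[k] L) :=
      isField_of_isIntegral_of_isField' (R := K) (S := K ⊗[k] L) (Field.toIsField K)
    have hμ : Function.Injective μ := by
      rw [injective_iff_map_eq_zero]
      intro t ht
      by_contra ht0
      obtain ⟨b, hb⟩ := hfield.mul_inv_cancel ht0
      have := congrArg μ.toRingHom hb
      rw [RingHom.map_mul, show μ.toRingHom t = 0 from ht, zero_mul, RingHom.map_one] at this
      exact zero_ne_one this
    have hle : Module.finrank K (K ⊗[k] L) ≤ Module.finrank K K :=
      LinearMap.finrank_le_finrank_of_injective (f := μ.toLinearMap) hμ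
    rw [Module.finrank_baseChange, Module.finrank_self] at hle
    have hbot : L = ⊥ := IntermediateField.finrank_eq_one_iff.1
      (le_antisymm hle Module.finrank_pos)
    exact IntermediateField.mem_bot.1 (hbot ▸ IntermediateField.mem_adjoin_simple_self k a)
  · have hK : separableClosure k K = ⊥ := le_bot_iff.1 fun a ha =>
      IntermediateField.mem_bot.2 (hall a (mem_separableClosure_iff.1 ha))
    have := isDomain_tensor_sepClosure K hK
    let S := SeparableClosure k
    obtain ⟨m, hR, -⟩ := hm S
    have : IrreducibleSpace ↥(Spec (CommRingCat.of (K ⊗[k] S))) :=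
      (inferInstance : IrreducibleSpace (PrimeSpectrum (K ⊗[k] S)))
    have hF : IrreducibleSpace ↥(pullback (ext k K) (ext k S)) :=
      (pullbackSpecIso k K S).hom.homeomorph.irreducibleSpace_iff.2 this
    have := MorphismProperty.pullback_fst (P := @UniversallyOpen) f (ext k S) inferInstance
    have hirr : IrreducibleSpace (pullback f (ext k S) : Scheme.{u}) := by
      refine @IrreducibleSpace.mk _ _ ⟨fun U V hU hV hU' hV' => ?_⟩ ?_
      · have key : ∀ U : Set ↥(pullback f (ext k S) : Scheme.{u}), IsOpen U → U.Nonempty → (m ⁻¹' U).Nonempty := by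
          intro U hU hU'
          obtain ⟨z, hz, hzη⟩ : η ∈ pullback.fst f (ext k S) '' U :=
            (hη.mem_open_set_iff ((pullback.fst f (ext k S)).isOpenMap _ hU)).2
              (by rw [Set.univ_inter]; exact hU'.image _)
          obtain ⟨w, rfl⟩ : z ∈ Set.range m := hR ▸ hzη
          exact ⟨w, hz⟩
        obtain ⟨a, ha⟩ := key U hU ⟨_, hU'.choose_spec.2⟩
        obtain ⟨b, hb⟩ := key V hV ⟨_, hV'.choose_spec.2⟩
        obtain ⟨w, -, hwU, hwV⟩ := PreirreducibleSpace.isPreirreducible_univ (m ⁻¹' U) (m ⁻¹' V)
          (hU.preimage m.continuous) (hV.preimage m.continuous) ⟨a, trivial, ha⟩ ⟨b, trivial, hb⟩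
        exact ⟨m w, trivial, hwU, hwV⟩
      · exact ⟨m (Classical.arbitrary _)⟩
    exact geometricallyIrreducible_of_isSepClosed f S

end Groth.Agent.GeomIrr
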