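import Groth.Agent.GeomIrr.Glue

/-!
Images of components of a base change, and the Galois orbit of components.
-/

universe u

open CategoryTheory CategoryTheory.Limits AlgebraicGeometry
open scoped TensorProduct

namespace Groth.Agent.GeomIrr

open FieldExtConn

variable {k : Type u} [Field k] {X : Scheme.{u}} (f : X ⟶ Spec (CommRingCat.of k))

theorem image_closure_mem_genericPoints {A B : Type*} [TopologicalSpace A] [TopologicalSpace B] {m : A → B}
    (hm : Continuous m) (g : A) : m '' closure {g} ⊆ closure {m g} :=
  (image_closure_subset_closure_image hm).trans (by rw [Set.image_singleton])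

/-- The image of a component of a base change is a component. -/
theorem image_closure_genericPoint (K : Type u) [Field K] [Algebra k K] {g : ↥(pullback f (ext k K))}
    (hg : g ∈ genericPoints ↥(pullback f (ext k K))) :
    pullback.fst f (ext k K) '' closure {g} = closure {pullback.fst f (ext k K) g} := by
  refine subset_antisymm (image_closure_mem_genericPoints (pullback.fst f (ext k K)).continuous g) fun y hy => ?_
  let C := AlgebraicClosure k
  obtain ⟨M, _, _, _, ⟨a⟩, ⟨b⟩⟩ := exists_common_algClosed (k := k) C K
  have : Surjective (baseMap f b) := inferInstance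
  obtain ⟨z, hz⟩ := (baseMap f b).surjective g
  let gM := genericPoints.ofComponent
    (⟨irreducibleComponent z, irreducibleComponent_mem_irreducibleComponents z⟩ :
      irreducibleComponents ↥(pullback f (ext k M)))
  have hgM : baseMap f b gM.1 = g := by
    have h1 : baseMap f b gM.1 ⤳ g :=
      hz ▸ ((genericPoints.isGenericPoint_ofComponent _).specializes mem_irreducibleComponent).map
        (baseMap f b).continuous
    exact (h1.antisymm (mem_genericPoints_iff.1 hg _ h1)).eq
  have := geometricallyIrreducible_extMap_of_algClosed a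
  have := geometricallyIrreducible_baseMap f a
  let g' := baseMap f a gM.1
  have hy' : y ∈ pullback.fst f (ext k C) '' closure {g'} := by
    have hint : IsIntegralHom (pullback.fst f (ext k C)) := by
      refine MorphismProperty.pullback_fst (P := @IsIntegralHom) f _ ?_
      rw [IsIntegralHom.SpecMap_iff]
      exact algebraMap_isIntegral_iff.2 Algebra.IsAlgebraic.isIntegral
    have hmem : pullback.fst f (ext k K) g ∈ pullback.fst f (ext k C) '' closure {g'} :=
      ⟨g', subset_closure rfl, by rw [← hgM, fst_baseMap, fst_baseMap]⟩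
    exact closure_minimal (Set.singleton_subset_iff.2 hmem)
      ((pullback.fst f (ext k C)).isClosedMap _ isClosed_closure) hy
  obtain ⟨c, hc, hcy⟩ := hy'
  obtain ⟨w, rfl⟩ := (baseMap f a).surjective c
  have hpre : IsIrreducible (baseMap f a ⁻¹' closure {g'}) :=
    (baseMap f a).isIrreducible_preimage (baseMap f a).isOpenMap isIrreducible_singleton.closure
  have hw : gM.1 ⤳ w := by
    have hcl : IsClosed (baseMap f a ⁻¹' closure {g'}) := isClosed_closure.preimage (baseMap f a).continuous
    obtain ⟨η, hη⟩ := QuasiSober.sober hpre hcl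
    have h1 : η ⤳ gM.1 := hη.specializes (show gM.1 ∈ baseMap f a ⁻¹' closure {g'} from subset_closure rfl)
    exact (mem_genericPoints_iff.1 gM.2 η h1).trans (hη.specializes hc)
  refine ⟨baseMap f b w, ?_, by rw [fst_baseMap, ← hcy, fst_baseMap]⟩
  exact hgM ▸ (hw.map (baseMap f b).continuous).mem_closure

theorem image_component_mem (K : Type u) [Field K] [Algebra k K] {T : Set ↥(pullback f (ext k K))}
    (hT : T ∈ irreducibleComponents ↥(pullback f (ext k K))) :
    pullback.fst f (ext k K) '' T ∈ irreducibleComponents ↥X := by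
  let g := genericPoints.ofComponent (⟨T, hT⟩ : irreducibleComponents ↥(pullback f (ext k K)))
  have hg : closure {g.1} = T := genericPoints.isGenericPoint_ofComponent _
  rw [← hg, image_closure_genericPoint f K g.2]
  exact fst_mem_genericPoints f g.2

theorem exists_component_over (K : Type u) [Field K] [Algebra k K] {Z : Set ↥X} (hZ : Z ∈ irreducibleComponents ↥X) :
    ∃ T ∈ irreducibleComponents ↥(pullback f (ext k K)), pullback.fst f (ext k K) '' T = Z := by
  let η := genericPoints.ofComponent (⟨Z, hZ⟩ : irreducibleComponents ↥X)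
  have hη : closure {η.1} = Z := genericPoints.isGenericPoint_ofComponent _
  have := surjective_ext (k := k) K
  obtain ⟨z, hz⟩ := (pullback.fst f (ext k K)).surjective η.1
  refine ⟨irreducibleComponent z, irreducibleComponent_mem_irreducibleComponents z, ?_⟩
  refine ((image_component_mem f K (irreducibleComponent_mem_irreducibleComponents z)).eq_of_subset hZ.1 ?_)
  let g := genericPoints.ofComponent
    (⟨irreducibleComponent z, irreducibleComponent_mem_irreducibleComponents z⟩ :
      irreducibleComponents ↥(pullback f (ext k K)))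
  have hg : closure {g.1} = irreducibleComponent z := genericPoints.isGenericPoint_ofComponent _
  have h1 : pullback.fst f (ext k K) g.1 ⤳ η.1 :=
    hz ▸ ((genericPoints.isGenericPoint_ofComponent _).specializes mem_irreducibleComponent).map
      (pullback.fst f (ext k K)).continuous
  rw [← hg, image_closure_genericPoint f K g.2, ← hη]
  exact (closure_minimal (Set.singleton_subset_iff.2 (mem_genericPoints_iff.1 η.2 _ h1).mem_closure) isClosed_closure)

/-- Points of the separable base change with the same image are Galois conjugate. -/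
theorem exists_galois_of_fst_eq (z z' : ↥(pullback f (ext k (SeparableClosure k))))
    (h : pullback.fst f (ext k (SeparableClosure k)) z = pullback.fst f (ext k (SeparableClosure k)) z') :
    ∃ σ : SeparableClosure k ≃ₐ[k] SeparableClosure k, baseMap f (σ : SeparableClosure k →ₐ[k] SeparableClosure k) z = z' := by
  obtain ⟨T, Ω, hΩ, q₁, q₂, ht, rfl, rfl⟩ :
      ∃ (T : PUnit.{1}) (Ω : Type u) (_ : Field Ω) (q₁ q₂ : Spec (CommRingCat.of Ω) ⟶ pullback f (ext k (SeparableClosure k))),
        q₁ ≫ pullback.fst _ _ = q₂ ≫ pullback.fst _ _ ∧ q₁ (IsLocalRing.closedPoint Ω) = z ∧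
          q₂ (IsLocalRing.closedPoint Ω) = z' := by
    obtain ⟨w, hw1, hw2⟩ := Scheme.Pullback.exists_preimage_pullback (f := pullback.fst f (ext k (SeparableClosure k)))
      (g := pullback.fst f (ext k (SeparableClosure k))) z z' h
    let P := pullback (pullback.fst f (ext k (SeparableClosure k))) (pullback.fst f (ext k (SeparableClosure k)))
    refine ⟨⟨⟩, P.residueField w, inferInstance, P.fromSpecResidueField w ≫ pullback.fst _ _,
      P.fromSpecResidueField w ≫ pullback.snd _ _, by rw [Category.assoc, Category.assoc, pullback.condition], ?_, ?_⟩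
    · rw [Scheme.Hom.comp_apply, Scheme.fromSpecResidueField_apply, hw1]
    · rw [Scheme.Hom.comp_apply, Scheme.fromSpecResidueField_apply, hw2]
  obtain ⟨a₁, ha₁⟩ := Spec.map_surjective (q₁ ≫ pullback.snd f (ext k (SeparableClosure k)))
  obtain ⟨a₂, ha₂⟩ := Spec.map_surjective (q₂ ≫ pullback.snd f (ext k (SeparableClosure k)))
  have hk : CommRingCat.ofHom (algebraMap k (SeparableClosure k)) ≫ a₁ =
      CommRingCat.ofHom (algebraMap k (SeparableClosure k)) ≫ a₂ := by
    refine Spec.map_injective ?_
    rw [Spec.map_comp, Spec.map_comp, ha₁, ha₂, Category.assoc, Category.assoc]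
    show q₁ ≫ pullback.snd f _ ≫ ext k _ = q₂ ≫ pullback.snd f _ ≫ ext k _
    rw [← pullback.condition, ← Category.assoc, ht, Category.assoc]
  let _ : Algebra k Ω := (a₁.hom.comp (algebraMap k (SeparableClosure k))).toAlgebra
  let φ₁ : SeparableClosure k →ₐ[k] Ω := AlgHom.mk a₁.hom fun c => rfl
  let φ₂ : SeparableClosure k →ₐ[k] Ω := AlgHom.mk a₂.hom fun c =>
    (RingHom.congr_fun (congrArg CommRingCat.Hom.hom hk) c).symm
  have hrange : φ₁.fieldRange = φ₂.fieldRange := by
    have key : ∀ ψ : SeparableClosure k →ₐ[k] Ω, ψ.fieldRange = separableClosure k Ω := fun ψ => by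
      refine le_antisymm ?_ fun y hy => ?_
      · rintro _ ⟨s, rfl⟩
        exact mem_separableClosure_iff.2
          ((Algebra.IsSeparable.isSeparable k s).map ψ ψ.injective)
      · have hsep := mem_separableClosure_iff.1 hy
        have hs : ((minpoly k y).map (algebraMap k (SeparableClosure k))).Splits :=
          IsSepClosed.splits_codomain _ hsep
        have hy2 : y ∈ (minpoly k y).rootSet Ω :=
          Polynomial.mem_rootSet.2 ⟨minpoly.ne_zero hsep.isIntegral, minpoly.aeval _ _⟩
        rw [← hs.image_rootSet ψ] at hy2
        obtain ⟨s, -, hs'⟩ := hy2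
        exact ⟨s, hs'⟩
    rw [key, key]
  let e₁ := AlgEquiv.ofInjectiveField φ₁
  let e₂ := AlgEquiv.ofInjectiveField φ₂
  let σ : SeparableClosure k ≃ₐ[k] SeparableClosure k :=
    e₂.trans ((IntermediateField.equivOfEq hrange.symm).trans e₁.symm)
  have hσ : ∀ s, φ₁ (σ s) = φ₂ s := fun s =>
    congrArg Subtype.val (e₁.apply_symm_apply (IntermediateField.equivOfEq hrange.symm (e₂ s)))
  refine ⟨σ, ?_⟩
  rw [← Scheme.Hom.comp_apply]
  suffices heq : q₁ ≫ baseMap f (σ : SeparableClosure k →ₐ[k] SeparableClosure k) = q₂ by rw [heq]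
  apply pullback.hom_ext
  · rw [Category.assoc, baseMap_fst, ht]
  · rw [Category.assoc, baseMap_snd, ← Category.assoc, ← ha₁, ← ha₂, ← Spec.map_comp]
    exact congrArg Spec.map (CommRingCat.hom_ext (RingHom.ext hσ))

theorem image_closure_baseMap_equiv (σ : SeparableClosure k ≃ₐ[k] SeparableClosure k)
    (g : ↥(pullback f (ext k (SeparableClosure k)))) :
    baseMap f (σ : SeparableClosure k →ₐ[k] SeparableClosure k) '' closure {g} =
      closure {baseMap f (σ : SeparableClosure k →ₐ[k] SeparableClosure k) g} := by
  have hinv : ∀ σ : SeparableClosure k ≃ₐ[k] SeparableClosure k, ∀ w,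
      baseMap f (σ : SeparableClosure k →ₐ[k] SeparableClosure k)
        (baseMap f (σ.symm : SeparableClosure k →ₐ[k] SeparableClosure k) w) = w := fun σ w => by
    rw [← Scheme.Hom.comp_apply, baseMap_comp]
    suffices h : baseMap f ((σ.symm : SeparableClosure k →ₐ[k] SeparableClosure k).comp
        (σ : SeparableClosure k →ₐ[k] SeparableClosure k)) = 𝟙 _ by rw [h]; rfl
    rw [show (σ.symm : SeparableClosure k →ₐ[k] SeparableClosure k).comp (σ : SeparableClosure k →ₐ[k] SeparableClosure k) =
      AlgHom.id k _ from AlgHom.ext fun a => σ.symm_apply_apply a]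
    apply pullback.hom_ext <;> simp [baseMap, extMap]
  refine subset_antisymm (image_closure_mem_genericPoints (baseMap f _).continuous g) fun y hy => ?_
  refine ⟨baseMap f (σ.symm : SeparableClosure k →ₐ[k] SeparableClosure k) y, ?_, hinv σ y⟩
  have h2 := hinv σ.symm g
  rw [AlgEquiv.symm_symm] at h2
  have := ((specializes_iff_mem_closure.2 hy).map
    (baseMap f (σ.symm : SeparableClosure k →ₐ[k] SeparableClosure k)).continuous).mem_closure
  rwa [h2] at this

end Groth.Agent.GeomIrr
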