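import Groth.Agent.GeomIrr.Alg
import Groth.Agent.EGA41Lib.ReducedTensor

/-!
Geometric reducedness along separable algebraic extensions.
-/

universe u

open Polynomial
open scoped TensorProduct

namespace Groth.Agent.GeomIrr.Alg

variable {k : Type u} [Field k]

/-- A separable element differs from any conjugate by an idempotent multiple. -/
theorem exists_idempotent_of_root {R : Type*} [CommRing R] (m : R[X]) (x y : R)
    (hx : m.eval x = 0) (hy : m.eval y = 0) (hu : IsUnit (m.derivative.eval y)) :
    ∃ e ∈ Ideal.span ({x - y} : Set R), IsIdempotentElem e ∧ (x - y) * e = x - y := by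
  obtain ⟨r, hr⟩ := Polynomial.binomExpansion m y (x - y)
  rw [show y + (x - y) = x by ring, hx, hy, zero_add] at hr
  obtain ⟨w, hw⟩ := hu.exists_left_inv
  have hd : (x - y) * ((x - y) * (-(w * r))) = x - y := by
    linear_combination w * hr + (x - y) * hw
  refine ⟨(x - y) * (-(w * r)), Ideal.mul_mem_right _ _ (Ideal.mem_span_singleton_self _), ?_, hd⟩
  show _ * _ = _
  linear_combination (-(w * r)) * hd

/-- Quotients of reduced rings by idempotently generated ideals are reduced. -/
theorem isRadical_span_of_idempotent {R : Type*} [CommRing R] [IsReduced R] (s : Set R)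
    (hs : ∀ x ∈ s, ∃ e ∈ Ideal.span s, IsIdempotentElem e ∧ x * e = x) : (Ideal.span s).IsRadical := by
  have key : ∀ x ∈ Ideal.span s, ∃ e ∈ Ideal.span s, IsIdempotentElem e ∧ x * e = x := by
    intro x hx
    induction hx using Submodule.span_induction with
    | mem x hx => exact hs x hx
    | zero => exact ⟨0, zero_mem _, IsIdempotentElem.zero, zero_mul _⟩
    | smul a x _ h =>
      obtain ⟨e, he, hi, hxe⟩ := h
      exact ⟨e, he, hi, by rw [smul_eq_mul, mul_assoc, hxe]⟩
    | add x y _ _ hx hy =>
      obtain ⟨e, he, hei, hxe⟩ := hx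
      obtain ⟨f, hf, hfi, hyf⟩ := hy
      refine ⟨e + f - e * f, sub_mem (add_mem he hf) (Ideal.mul_mem_right _ _ he), ?_, ?_⟩
      · show _ * _ = _
        linear_combination (1 - f) * (1 - f) * hei.eq + (1 - e) * hfi.eq
      · linear_combination (1 - f) * hxe + (1 - e) * hyf
  rintro x ⟨n, hn⟩
  obtain ⟨e, he, hei, hxe⟩ := key _ hn
  have hp : x ^ n * (1 - e) = 0 := by linear_combination -hxe
  have hnil : IsNilpotent (x * (1 - e)) := ⟨n + 1, by
    rw [pow_succ, mul_pow]
    rcases Nat.eq_zero_or_pos n with rfl | h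
    · simp only [pow_zero, one_mul] at hp ⊢
      rw [hp, mul_zero]
    · rw [hei.one_sub.pow_eq h.ne', hp, zero_mul]⟩
  have hxe' : x = x * e := by linear_combination hnil.eq_zero
  rw [hxe']
  exact Ideal.mul_mem_left _ _ he

/-- A purely inseparable and a separable extension have a field as tensor product. -/
theorem isDomain_tensor_purelyInseparable_separable (K k' : Type u) [Field K] [Field k'] [Algebra k K]
    [Algebra k k'] [IsPurelyInseparable k K] [Algebra.IsSeparable k k'] : IsDomain (k' ⊗[k] K) := by
  have := Groth.Agent.EGA41Lib.isReduced_tensor_of_isSeparable_field (k := k) k' K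
  have h1 := PrimeSpectrum.isHomeomorph_comap_of_isPurelyInseparable k K k'
  have : IrreducibleSpace (PrimeSpectrum (k' ⊗[k] K)) := h1.homeomorph.irreducibleSpace_iff.2 inferInstance
  have hp := PrimeSpectrum.irreducibleSpace_iff_isPrime_nilradical.1 this
  rw [nilradical_eq_zero] at hp
  exact (Ideal.Quotient.isDomain_iff_prime (⊥ : Ideal (k' ⊗[k] K))).2 hp |> fun h =>
    (RingEquiv.quotientBot (k' ⊗[k] K)).toMulEquiv.isDomain_iff.1 h

variable {k' A : Type u} [Field k'] [Algebra k k'] [Algebra.IsSeparable k k'] [CommRing A] [Algebra k' A]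
  [Algebra k A] [IsScalarTower k k' A]

/-- Geometric reducedness ascends to a separable extension of the base. -/
theorem isReduced_tensor_sep (h : ∀ (K : Type u) [Field K] [Algebra k K], IsReduced (K ⊗[k] A))
    (K : Type u) [Field K] [Algebra k' K] : IsReduced (K ⊗[k'] A) := by
  letI : Algebra k K := ((algebraMap k' K).comp (algebraMap k k')).toAlgebra
  haveI : IsScalarTower k k' K := IsScalarTower.of_algebraMap_eq fun c => rfl
  have := h K
  let a : k' →ₐ[k] K ⊗[k] A := (Algebra.TensorProduct.includeLeft (R := k) (S := k) (A := K) (B := A)).comp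
    (IsScalarTower.toAlgHom k k' K)
  let b : k' →ₐ[k] K ⊗[k] A := (Algebra.TensorProduct.includeRight (R := k) (A := K) (B := A)).comp
    (IsScalarTower.toAlgHom k k' A)
  let s : Set (K ⊗[k] A) := Set.range fun c => a c - b c
  have hs : (Ideal.span s).IsRadical := by
    refine isRadical_span_of_idempotent s ?_
    rintro _ ⟨c, rfl⟩
    have hev : ∀ (φ : k' →ₐ[k] K ⊗[k] A) (p : k[X]),
        (p.map (algebraMap k (K ⊗[k] A))).eval (φ c) = φ (aeval c p) := fun φ p => by
      rw [eval_map, ← aeval_def, aeval_algHom_apply]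
    have hsepc : IsSeparable k c := Algebra.IsSeparable.isSeparable k c
    obtain ⟨e, he, hei, hxe⟩ := exists_idempotent_of_root ((minpoly k c).map (algebraMap k (K ⊗[k] A)))
      (a c) (b c) (by rw [hev, minpoly.aeval, map_zero]) (by rw [hev, minpoly.aeval, map_zero])
      (by
        rw [derivative_map, hev]
        exact (isUnit_iff_ne_zero.2 (Separable.aeval_derivative_ne_zero hsepc (minpoly.aeval k c))).map b)
    have hmem : a c - b c ∈ s := ⟨c, rfl⟩
    exact ⟨e, Ideal.span_mono (Set.singleton_subset_iff.2 hmem) he, hei, hxe⟩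
  let Q := (K ⊗[k] A) ⧸ Ideal.span s
  have hQ : IsReduced Q := (Ideal.isRadical_iff_quotient_reduced _).1 hs
  let fL : K →+* Q := (Ideal.Quotient.mk _).comp Algebra.TensorProduct.includeLeftRingHom
  let fR : A →+* Q := (Ideal.Quotient.mk _).comp (Algebra.TensorProduct.includeRight (R := k) (A := K) (B := A)).toRingHom
  have hfR : ∀ c, fR (algebraMap k' A c) = algebraMap k' Q c := fun c =>
    ((Ideal.Quotient.eq).2 (Ideal.subset_span (⟨c, rfl⟩ : a c - b c ∈ s))).symm
  let g : K ⊗[k'] A →ₐ[k'] Q := Algebra.TensorProduct.lift (R := k') (S := k')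
    { fL with commutes' := fun c => rfl } { fR with commutes' := hfR } (fun x y => Commute.all _ _)
  let π : K ⊗[k] A →ₐ[K] K ⊗[k'] A := Algebra.TensorProduct.mapOfCompatibleSMul k' k K K A
  have hsle : Ideal.span s ≤ RingHom.ker π.toRingHom := by
    refine Ideal.span_le.2 ?_
    rintro _ ⟨c, rfl⟩
    show π (a c - b c) = 0
    rw [map_sub, sub_eq_zero]
    show (algebraMap k' K c) ⊗ₜ[k'] (1 : A) = 1 ⊗ₜ[k'] algebraMap k' A c
    rw [Algebra.algebraMap_eq_smul_one, Algebra.algebraMap_eq_smul_one, TensorProduct.smul_tmul]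
  have hleft : ∀ x, Ideal.Quotient.lift _ π.toRingHom (fun y hy => hsle hy) (g x) = x := by
    intro x
    induction x using TensorProduct.induction_on with
    | zero => simp
    | add u v hu hv => simp only [map_add, hu, hv]
    | tmul l y =>
      simp only [g, Algebra.TensorProduct.lift_tmul, map_mul]
      show π (l ⊗ₜ[k] 1) * π (1 ⊗ₜ[k] y) = _
      rw [← map_mul, Algebra.TensorProduct.tmul_mul_tmul, mul_one, one_mul]
      rfl
  exact isReduced_of_injective g (Function.LeftInverse.injective hleft)

/-- Geometric reducedness descends along a separable extension of the base. -/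
theorem isReduced_tensor_purelyInseparable (h : ∀ (K : Type u) [Field K] [Algebra k' K], IsReduced (K ⊗[k'] A))
    (K : Type u) [Field K] [Algebra k K] [IsPurelyInseparable k K] : IsReduced (K ⊗[k] A) := by
  have := isDomain_tensor_purelyInseparable_separable (k := k) K k'
  have : Algebra.IsIntegral k' (k' ⊗[k] K) := inferInstance
  have hF : IsField (k' ⊗[k] K) := isField_of_isIntegral_of_isField' (Field.toIsField k')
  letI : Field (k' ⊗[k] K) := hF.toField
  have := h (k' ⊗[k] K)
  exact isReduced_of_injective
    ((((Algebra.TensorProduct.comm k' (k' ⊗[k] K) A).toRingEquiv.trans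
      (Algebra.TensorProduct.cancelBaseChange k k' k' A K).toRingEquiv).trans
        (Algebra.TensorProduct.comm k A K).toRingEquiv).symm)
    (RingEquiv.injective _)

end Groth.Agent.GeomIrr.Alg
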