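import Groth.Agent.GeomIrr.Generic
import Groth.Agent.GeomRedAt.Change

/-!
Geometric irreducibility from the square; components stable under all base changes.
-/

universe u

open CategoryTheory CategoryTheory.Limits AlgebraicGeometry
open scoped TensorProduct

namespace Groth.Agent.GeomIrr

open FieldExtConn

variable {k : Type u} [Field k]

/-- A separable element generating an irreducible tensor product lies in the base. -/
theorem mem_range_of_irreducible_tensor {K : Type u} [Field K] [Algebra k K] {a : K} (ha : IsSeparable k a)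
    (hF : IrreducibleSpace (PrimeSpectrum (K ⊗[k] IntermediateField.adjoin k ({a} : Set K)))) :
    a ∈ Set.range (algebraMap k K) := by
  let L : IntermediateField k K := IntermediateField.adjoin k {a}
  have : FiniteDimensional k L := IntermediateField.adjoin.finiteDimensional ha.isIntegral
  have : Algebra.IsSeparable k L := (IntermediateField.isSeparable_adjoin_simple_iff_isSeparable _ _).2 ha
  have : Algebra.FormallyUnramified k L := Algebra.FormallyUnramified.of_isSeparable k L
  have : _root_.IsReduced (K ⊗[k] L) := Algebra.FormallyUnramified.isReduced_of_field K (K ⊗[k] L)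
  have hint : AlgebraicGeometry.IsIntegral (Spec (CommRingCat.of (K ⊗[k] L))) := by
    rw [isIntegral_iff_irreducibleSpace_and_isReduced]
    exact ⟨hF, (affine_isReduced_iff _).2 ‹_›⟩
  have : IsDomain (K ⊗[k] L) := (affine_isIntegral_iff _).1 hint
  let μ : K ⊗[k] L →ₐ[K] K := Algebra.TensorProduct.lift (AlgHom.id K K) L.val fun _ _ => Commute.all _ _
  have hfield : IsField (K ⊗[k] L) :=
    isField_of_isIntegral_of_isField' (R := K) (S := K ⊗[k] L) (Field.toIsField K)
  have hμ : Function.Injective μ := by
    rw [injective_iff_map_eq_zero]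
    intro t ht
    by_contra ht0
    obtain ⟨b, hb⟩ := hfield.mul_inv_cancel ht0
    have := congrArg μ.toRingHom hb
    rw [RingHom.map_mul, show μ.toRingHom t = 0 from ht, zero_mul, RingHom.map_one] at this
    exact zero_ne_one this
  have hle : Module.finrank K (K ⊗[k] L) ≤ Module.finrank K K :=
    LinearMap.finrank_le_finrank_of_injective (f := μ.toLinearMap) hμ
  rw [Module.finrank_baseChange, Module.finrank_self] at hle
  have hbot : L = ⊥ := IntermediateField.finrank_eq_one_iff.1 (le_antisymm hle Module.finrank_pos)
  exact IntermediateField.mem_bot.1 (hbot ▸ IntermediateField.mem_adjoin_simple_self k a)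

variable {X : Scheme.{u}} (f : X ⟶ Spec (CommRingCat.of k))

/-- An irreducible self-product forces geometric irreducibility. -/
theorem geometricallyIrreducible_of_square [hXX : IrreducibleSpace ↥(pullback f f)] : GeometricallyIrreducible f := by
  have hsurj : Surjective f := by
    refine ⟨fun p => ?_⟩
    obtain ⟨z⟩ := hXX.toNonempty
    exact ⟨pullback.fst f f z, Subsingleton.elim (α := Spec (CommRingCat.of k)) _ _⟩
  have hX : IrreducibleSpace X := (pullback.fst f f).surjective.irreducibleSpace (pullback.fst f f).continuous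
  let η := genericPoint X
  let φ : CommRingCat.of k ⟶ X.residueField η := Spec.preimage (X.fromSpecResidueField η ≫ f)
  let K : Type u := X.residueField η
  let _ : Algebra k (X.residueField η) := φ.hom.toAlgebra
  have halg : X.fromSpecResidueField η ≫ f = Spec.map (CommRingCat.ofHom (algebraMap k (X.residueField η))) :=
    (Spec.map_preimage _).symm
  rw [geometricallyIrreducible_iff_generic f (genericPoint_spec X) halg]
  intro a ha
  let i : Spec (CommRingCat.of K) ⟶ X := X.fromSpecResidueField η
  have hi : i ≫ f = ext k K := halg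
  have hr : Set.range i = {η} := X.range_fromSpecResidueField η
  let m : pullback (ext k K) (ext k K) ⟶ pullback f f :=
    pullback.map _ _ _ _ i i (𝟙 _) (by rw [Category.comp_id, hi]) (by rw [Category.comp_id, hi])
  have hpre : IsPreimmersion m := by
    have : IsPreimmersion i := inferInstanceAs (IsPreimmersion (X.fromSpecResidueField η))
    exact MorphismProperty.pullback_map (P := @IsPreimmersion) ‹_› ‹_› hi.symm hi.symm
  have hF : IrreducibleSpace ↥(Spec (CommRingCat.of (K ⊗[k] K))) := by
    refine (pullbackSpecIso k K K).hom.homeomorph.irreducibleSpace_iff.1 ?_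
    let ξ := genericPoint ↥(pullback f f)
    have hξ : ∀ p : pullback f f ⟶ X, Surjective p → p ξ = η := fun p hp => by
      have h1 := (genericPoint_spec ↥(pullback f f)).image p.continuous
      rw [Set.image_univ, p.surjective.range_eq, closure_univ] at h1
      exact h1.eq (genericPoint_spec X)
    obtain ⟨w, hw⟩ : ξ ∈ Set.range m := by
      rw [Scheme.Pullback.range_map]
      refine ⟨?_, ?_⟩
      · rw [Set.mem_preimage, hr]; exact hξ _ inferInstance
      · rw [Set.mem_preimage, hr]; exact hξ _ inferInstance
    have hgen : IsGenericPoint w (Set.univ) := Set.eq_univ_of_forall fun v =>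
      (m.isEmbedding.isInducing.specializes_iff.1 (hw ▸ genericPoint_specializes (m v))).mem_closure
    exact @IrreducibleSpace.mk _ _ ⟨hgen.isIrreducible.2⟩ ⟨w⟩
  refine mem_range_of_irreducible_tensor ha ?_
  let L : IntermediateField k K := IntermediateField.adjoin k {a}
  have : IrreducibleSpace ↥(pullback (ext k K) (ext k K)) :=
    (pullbackSpecIso k K K).hom.homeomorph.irreducibleSpace_iff.2 hF
  have : IrreducibleSpace ↥(pullback (ext k K) (ext k L)) :=
    (baseMap (ext k K) L.val).surjective.irreducibleSpace (baseMap (ext k K) L.val).continuous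
  exact (pullbackSpecIso k K L).hom.homeomorph.irreducibleSpace_iff.1 this

theorem geometricallyIrreducible_iff_square :
    GeometricallyIrreducible f ↔ IrreducibleSpace ↥(pullback f f) := by
  refine ⟨fun h => ?_, fun h => geometricallyIrreducible_of_square f⟩
  have : Subsingleton ↥(Spec (CommRingCat.of k)) := inferInstanceAs (Subsingleton (PrimeSpectrum k))
  have : Nonempty ↥(Spec (CommRingCat.of k)) := ⟨IsLocalRing.closedPoint k⟩
  have := GeometricallyIrreducible.irreducibleSpace_of_subsingleton (f := f)
  infer_instance

/-- A component that alone contains the preimage of `Z` over an algebraically closed field comes from a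
geometrically irreducible component. -/
theorem preimage_image_component {K : Type u} [Field K] [Algebra k K] [IsAlgClosed K] {Z : Set X}
    {C' : Set ↥(pullback f (ext k K))} (hC' : C' ∈ irreducibleComponents ↥(pullback f (ext k K)))
    (huniq : ∀ D ∈ irreducibleComponents ↥(pullback f (ext k K)), pullback.fst f (ext k K) ⁻¹' Z ⊆ D ↔ D = C') :
    pullback.fst f (ext k K) ⁻¹' (pullback.fst f (ext k K) '' C') = C' ∧
      pullback.fst f (ext k K) '' C' ∈ irreducibleComponents X ∧
      Z ⊆ pullback.fst f (ext k K) '' C' ∧
      (∀ (L : Type u) [Field L] [Algebra k L],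
        IsIrreducible (pullback.fst f (ext k L) ⁻¹' (pullback.fst f (ext k K) '' C'))) ∧
      ((∀ D ∈ irreducibleComponents ↥(pullback f (ext k K)), (D ∩ pullback.fst f (ext k K) ⁻¹' Z).Nonempty → D = C') →
        ∀ D ∈ irreducibleComponents X, (D ∩ Z).Nonempty → D = pullback.fst f (ext k K) '' C') := by
  let π := pullback.fst f (ext k K)
  have hZC : π ⁻¹' Z ⊆ C' := (huniq C' hC').2 rfl
  have := surjective_ext (k := k) K
  have hGI : ∀ (M : Type u) [Field M] [Algebra k M] (g : K →ₐ[k] M), GeometricallyIrreducible (baseMap f g) :=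
    fun M _ _ g => geometricallyIrreducible_baseMap f g (h := geometricallyIrreducible_extMap_of_algClosed g)
  have hstab : π ⁻¹' (π '' C') = C' := by
    refine subset_antisymm (fun p ⟨c, hc, hcp⟩ => ?_) (Set.subset_preimage_image _ _)
    obtain ⟨z, hz1, hz2⟩ := Scheme.Pullback.exists_preimage_pullback (f := π) (g := π) p c hcp.symm
    let P := pullback π π
    let R := AlgebraicClosure (P.residueField z)
    let ω : Spec (CommRingCat.of R) ⟶ P :=
      Spec.map (CommRingCat.ofHom (algebraMap (P.residueField z) R)) ≫ P.fromSpecResidueField z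
    let ψ := Spec.preimage ((ω ≫ pullback.fst π π) ≫ pullback.snd f (ext k K) ≫ ext k K)
    let _ : Algebra k R := ψ.hom.toAlgebra
    have hψ : ((ω ≫ pullback.fst π π) ≫ pullback.snd f (ext k K) ≫ ext k K) = ext k R := (Spec.map_preimage _).symm
    have hψ' : ((ω ≫ pullback.snd π π) ≫ pullback.snd f (ext k K) ≫ ext k K) = ext k R := by
      rw [← hψ, ← pullback.condition (f := f) (g := ext k K), Category.assoc, Category.assoc]
      have hc := (pullback.condition (f := π) (g := π)) =≫ f
      simp only [Category.assoc] at hc
      exact congrArg (ω ≫ ·) hc.symm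
    have hex : ∀ q : Spec (CommRingCat.of R) ⟶ Spec (CommRingCat.of K), q ≫ ext k K = ext k R →
        ∃ g : K →ₐ[k] R, extMap g = q := fun q hq => by
      refine ⟨{ (Spec.preimage q).hom with commutes' := fun c => ?_ }, Spec.map_preimage q⟩
      have : CommRingCat.ofHom (algebraMap k K) ≫ Spec.preimage q = CommRingCat.ofHom (algebraMap k R) :=
        Spec.map_injective (by rw [Spec.map_comp, Spec.map_preimage, hq])
      exact congrArg (fun h => h.hom c) this
    obtain ⟨g₁, hg₁⟩ := hex ((ω ≫ pullback.fst π π) ≫ pullback.snd f (ext k K)) (by rw [Category.assoc]; exact hψ)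
    obtain ⟨g₂, hg₂⟩ := hex ((ω ≫ pullback.snd π π) ≫ pullback.snd f (ext k K)) (by rw [Category.assoc]; exact hψ')
    let σ : Spec (CommRingCat.of R) ⟶ pullback f (ext k R) :=
      pullback.lift ((ω ≫ pullback.fst π π) ≫ π) (𝟙 _) (by
        rw [Category.id_comp, ← hψ, Category.assoc, Category.assoc]
        rw [← pullback.condition (f := f) (g := ext k K)]
        simp only [Category.assoc]
        rfl)
    have hσ₁ : σ ≫ baseMap f g₁ = ω ≫ pullback.fst π π := by
      apply pullback.hom_ext
      · rw [Category.assoc, baseMap_fst, pullback.lift_fst]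
      · rw [Category.assoc, baseMap_snd, pullback.lift_snd_assoc, Category.id_comp, hg₁]
    have hσ₂ : σ ≫ baseMap f g₂ = ω ≫ pullback.snd π π := by
      apply pullback.hom_ext
      · rw [Category.assoc, baseMap_fst, pullback.lift_fst, Category.assoc, pullback.condition, ← Category.assoc]
      · rw [Category.assoc, baseMap_snd, pullback.lift_snd_assoc, Category.id_comp, hg₂]
    let pt : ↥(Spec (CommRingCat.of R)) := IsLocalRing.closedPoint R
    have hω : ω pt = z := by rw [Scheme.Hom.comp_apply, Scheme.fromSpecResidueField_apply]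
    have e1 : baseMap f g₁ (σ pt) = p := by
      rw [← Scheme.Hom.comp_apply, hσ₁, Scheme.Hom.comp_apply, hω, hz1]
    have e2 : baseMap f g₂ (σ pt) = c := by
      rw [← Scheme.Hom.comp_apply, hσ₂, Scheme.Hom.comp_apply, hω, hz2]
    have key : baseMap f g₂ ⁻¹' C' = baseMap f g₁ ⁻¹' C' := by
      have := hGI R g₁
      have := hGI R g₂
      let E₁ := (baseMap f g₁).irreducibleComponentsEquiv (baseMap f g₁).isOpenMap
      have hirr := fun (g : K →ₐ[k] R) (h : GeometricallyIrreducible (baseMap f g)) =>
        (baseMap f g).isIrreducible_preimage (baseMap f g).isOpenMap hC'.1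
      have h2 := hirr g₂ (hGI R g₂)
      obtain ⟨T, hT, hsub⟩ := exists_mem_irreducibleComponents_subset_of_isIrreducible _ h2
      have himg : pullback.fst f (ext k K) ⁻¹' Z ⊆ closure (baseMap f g₁ '' T) := fun y hy => by
        obtain ⟨w, rfl⟩ := (baseMap f g₁).surjective y
        refine subset_closure ⟨w, hsub ?_, rfl⟩
        refine hZC (show pullback.fst f (ext k K) (baseMap f g₂ w) ∈ Z from ?_)
        rw [fst_baseMap, ← fst_baseMap f g₁]
        exact hy
      have hTi := (hT.1.image _ (baseMap f g₁).continuous.continuousOn).closure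
      obtain ⟨D, hD, hDsub⟩ := exists_mem_irreducibleComponents_subset_of_isIrreducible _ hTi
      have hDC := (huniq D hD).1 (himg.trans hDsub)
      have h12 : baseMap f g₂ ⁻¹' C' ⊆ baseMap f g₁ ⁻¹' C' := fun w hw =>
        hDC ▸ hDsub (subset_closure ⟨w, hsub hw, rfl⟩)
      have h1 := hirr g₁ (hGI R g₁)
      have hmax : baseMap f g₂ ⁻¹' C' ∈ irreducibleComponents ↥(pullback f (ext k R)) := by
        refine ⟨h2, fun S hS hle => ?_⟩
        have hS' := (hS.image _ (baseMap f g₂).continuous.continuousOn)
        have : C' ⊆ baseMap f g₂ '' S := by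
          rw [← Set.image_preimage_eq C' (baseMap f g₂).surjective]; exact Set.image_mono hle
        exact Set.image_subset_iff.1 (hC'.2 hS' this)
      exact subset_antisymm h12 (hmax.2 h1 h12)
    have : σ pt ∈ baseMap f g₂ ⁻¹' C' := by rw [Set.mem_preimage, e2]; exact hc
    rw [key, Set.mem_preimage, e1] at this
    exact this
  have : Flat (ext k K) := GeomRedAt.flat_SpecMap_field _
  have hclosed : IsClosed (π '' C') := by
    have hq := Flat.isQuotientMap_of_surjective π
    rw [← hq.isClosed_preimage, hstab]
    exact isClosed_of_mem_irreducibleComponents _ hC'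
  have hirr : IsIrreducible (π '' C') := hC'.1.image _ π.continuous.continuousOn
  have hmax : π '' C' ∈ irreducibleComponents X := by
    refine ⟨hirr, fun D hD hle => ?_⟩
    obtain ⟨ξ, hξ⟩ := QuasiSober.sober hC'.1 (isClosed_of_mem_irreducibleComponents _ hC')
    obtain ⟨η, hη⟩ := QuasiSober.sober hD.closure isClosed_closure
    obtain ⟨ζ, hζ, hζη⟩ := Flat.generalizingMap π
      (hη.specializes (subset_closure (hle ⟨ξ, hξ.mem, rfl⟩)))
    have hζC : ζ ∈ C' := by
      have hsub : C' ⊆ closure {ζ} := by
        rw [← hξ.def]; exact closure_minimal (Set.singleton_subset_iff.2 hζ.mem_closure) isClosed_closure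
      exact hC'.2 isIrreducible_singleton.closure hsub (subset_closure rfl)
    intro y hy
    exact (hη.specializes (subset_closure hy)).mem_closed hclosed ⟨ζ, hζC, hζη⟩
  refine ⟨hstab, hmax, fun z hz => ?_, fun L _ _ => ?_, fun hall D hD ⟨z, hzD, hzZ⟩ => ?_⟩
  · obtain ⟨w, rfl⟩ := π.surjective z
    exact ⟨w, hZC hz, rfl⟩
  · obtain ⟨M, _, _, _, ⟨φ⟩, ⟨ι⟩⟩ := exists_common_algClosed (k := k) K L
    have := hGI M φ
    have h1 := (baseMap f φ).isIrreducible_preimage (baseMap f φ).isOpenMap hC'.1
    have h2 := h1.image _ (baseMap f ι).continuous.continuousOn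
    convert h2 using 1
    refine Set.ext fun y => ⟨fun hy => ?_, ?_⟩
    · obtain ⟨w, rfl⟩ := (baseMap f ι).surjective y
      refine ⟨w, ?_, rfl⟩
      rw [Set.mem_preimage, ← hstab, Set.mem_preimage, fst_baseMap, ← fst_baseMap f ι]
      exact hy
    · rintro ⟨w, hw, rfl⟩
      refine ⟨baseMap f φ w, hw, ?_⟩
      rw [fst_baseMap, fst_baseMap]
  · have hDc := isClosed_of_mem_irreducibleComponents _ hD
    obtain ⟨η, hη⟩ := QuasiSober.sober hD.1 hDc
    obtain ⟨z', rfl⟩ := π.surjective z
    obtain ⟨ζ, hζ, hζη⟩ := Flat.generalizingMap π (hη.specializes hzD)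
    have hDC := hall (irreducibleComponent ζ) (irreducibleComponent_mem_irreducibleComponents _)
      ⟨z', hζ.mem_closed isClosed_irreducibleComponent mem_irreducibleComponent, hzZ⟩
    have hsub : D ⊆ π '' C' := fun y hy =>
      (hη.specializes hy).mem_closed hclosed ⟨ζ, hDC ▸ mem_irreducibleComponent, hζη⟩
    exact subset_antisymm hsub (hD.2 hirr hsub)

end Groth.Agent.GeomIrr
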